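import Mathlib.Data.ZMod.Basic
import Mathlib.Algebra.Exact.Basic
import Mathlib.Algebra.Group.Subgroup.Ker
import Mathlib.Algebra.Group.Prod
import Mathlib.Tactic.Ring

/-!
# Algebraic consequences of the Mayer-Vietoris sequence for attaching a cell of codimension `c`
-/

set_option autoImplicit false
universe t

namespace Groth.Agent.Lefpen.H719.StepAbs

/-- A group killed by `m` which is an extension of `ℤ/m` by `ℤ/m` is `ℤ/m × ℤ/m`. -/
theorem nonempty_prod {m : ℕ} {H : Type t} [AddCommGroup H] (hH : ∀ x : H, m • x = 0)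
    (f : ZMod m →+ H) (g : H →+ ZMod m) (hf : Function.Injective f) (hg : Function.Surjective g)
    (hfg : g.ker = f.range) : Nonempty (H ≃+ ZMod m × ZMod m) := by
  obtain ⟨h, hh⟩ := hg 1
  let s : ZMod m →+ H := ZMod.lift m ⟨(zmultiplesHom H) h, by
    rw [zmultiplesHom_apply]
    have := hH h
    rwa [← natCast_zsmul] at this⟩
  have hs : ∀ x, g (s x) = x := by
    intro x
    obtain ⟨x, rfl⟩ := ZMod.intCast_surjective x
    have h1 : s (x : ZMod m) = x • h := by
      change ZMod.lift m _ (x : ZMod m) = _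
      rw [ZMod.lift_coe]
      rfl
    rw [h1, map_zsmul, hh]
    simp
  have hz : ∀ x, g (f x) = 0 := fun x => by
    have : f x ∈ g.ker := by rw [hfg]; exact ⟨x, rfl⟩
    exact this
  let e : ZMod m × ZMod m →+ H := f.coprod s
  have he : ∀ p, e p = f p.1 + s p.2 := fun p => rfl
  refine ⟨(AddEquiv.ofBijective e ⟨?_, ?_⟩).symm⟩
  · rw [injective_iff_map_eq_zero]
    rintro ⟨x, y⟩ hxy
    have h1 : f x + s y = 0 := hxy
    have h2 : y = 0 := by
      have := congrArg g h1
      rwa [map_add, hz, hs, zero_add, map_zero] at this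
    subst h2
    rw [map_zero, add_zero] at h1
    have h3 : x = 0 := hf (by rw [h1, map_zero])
    rw [h3]; rfl
  · intro x
    have h1 : x - s (g x) ∈ g.ker := by
      rw [AddMonoidHom.mem_ker, map_sub, hs, sub_self]
    rw [hfg] at h1
    obtain ⟨y, hy⟩ := h1
    refine ⟨(y, g x), ?_⟩
    rw [he]
    change f y + s (g x) = x
    rw [hy, sub_add_cancel]

section

variable {HX HU HV HW : ℕ → Type t} [∀ n, AddCommGroup (HX n)] [∀ n, AddCommGroup (HU n)]
  [∀ n, AddCommGroup (HV n)] [∀ n, AddCommGroup (HW n)]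
  (rU : ∀ n, HX n →+ HU n) (rV : ∀ n, HX n →+ HV n) (sU : ∀ n, HU n →+ HW n) (sV : ∀ n, HV n →+ HW n)
  (δ : ∀ n, HW n →+ HX (n + 1))
  (h1 : ∀ n : ℕ, (AddMonoidHom.prod (rU (n + 1)) (rV (n + 1))).ker = (δ n).range)
  (h2 : ∀ n : ℕ, ((sU n).comp (AddMonoidHom.fst _ _) - (sV n).comp (AddMonoidHom.snd _ _)).ker =
        (AddMonoidHom.prod (rU n) (rV n)).range)
  (h3 : ∀ n : ℕ, (δ n).ker =
        ((sU n).comp (AddMonoidHom.fst _ _) - (sV n).comp (AddMonoidHom.snd _ _)).range)

include h1 h3 in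
/-- injectivity of the restriction to `U` -/
theorem injective_of (n : ℕ) (hV : Subsingleton (HV (n + 1)))
    (hs : Function.Surjective (sV n) ∨ Subsingleton (HW n)) : Function.Injective (rU (n + 1)) := by
  rw [injective_iff_map_eq_zero]
  intro x hx
  have hx' : x ∈ (AddMonoidHom.prod (rU (n + 1)) (rV (n + 1))).ker := by
    rw [AddMonoidHom.mem_ker]
    exact Prod.ext hx (Subsingleton.elim _ _)
  rw [h1] at hx'
  obtain ⟨y, rfl⟩ := hx'
  have hy : y ∈ (δ n).ker := by
    rcases hs with hs | hs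
    · obtain ⟨v, rfl⟩ := hs y
      rw [h3]
      refine ⟨(0, -v), ?_⟩
      simp
    · have : y = 0 := Subsingleton.elim _ _
      rw [this]; exact zero_mem _
  exact hy

include h2 in
theorem surjective_of (n : ℕ) (hW : Subsingleton (HW n)) : Function.Surjective (rU n) := by
  intro x
  have hx : (x, (0 : HV n)) ∈ ((sU n).comp (AddMonoidHom.fst _ _) - (sV n).comp (AddMonoidHom.snd _ _)).ker := by
    rw [AddMonoidHom.mem_ker]
    exact Subsingleton.elim _ _
  rw [h2] at hx
  obtain ⟨y, hy⟩ := hx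
  exact ⟨y, congrArg Prod.fst hy⟩

include h1 h3 in
/-- exactness in the critical degree -/
theorem exact_of (n : ℕ) (hV : Subsingleton (HV (n + 1))) (hU : Subsingleton (HU n))
    (hV' : Subsingleton (HV n)) :
    Function.Injective (δ n) ∧ (rU (n + 1)).ker = (δ n).range := by
  constructor
  · rw [← AddMonoidHom.ker_eq_bot_iff, h3, AddSubgroup.eq_bot_iff_forall]
    rintro _ ⟨⟨u, v⟩, rfl⟩
    have hu : u = 0 := Subsingleton.elim _ _
    have hv : v = 0 := Subsingleton.elim _ _
    subst hu hv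
    exact map_zero _
  · rw [← h1]
    ext x
    rw [AddMonoidHom.mem_ker, AddMonoidHom.mem_ker]
    constructor
    · intro hx
      exact Prod.ext hx (Subsingleton.elim _ _)
    · intro hx
      exact congrArg Prod.fst hx

end

end Groth.Agent.Lefpen.H719.StepAbs
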