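import Groth.Agent.Lefpen.H719.MVConst
import Groth.Agent.Lefpen.H719.StepAbs

/-!
# Attaching a cell: the effect on cohomology with constant coefficients

`U`, `V` opens of a scheme `X` with `H^q(V) = 0` for `q > 0` and `U ⊓ V` with the cohomology of a
punctured affine space of dimension `c`.
-/

set_option autoImplicit false
universe u

open CategoryTheory CategoryTheory.Limits AlgebraicGeometry Opposite

namespace Groth.Agent.Lefpen.H719.Attach

open Groth.Agent.Lefpen.H719.MVConst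

variable {X : Scheme.{u}}

/-- Mayer-Vietoris with constant coefficients for two opens. -/
theorem mv_opens (U V : X.Opens) (M : Type) [AddCommGroup M] :
    ∃ δ : ∀ n : ℕ, HC (↑(U ⊓ V) : Scheme.{u}) M n →+ HC (↑(U ⊔ V) : Scheme.{u}) M (n + 1),
      (AddMonoidHom.prod (resC (X.homOfLE (le_sup_left : U ≤ U ⊔ V)) M 0)
        (resC (X.homOfLE (le_sup_right : V ≤ U ⊔ V)) M 0)).ker = ⊥ ∧
      (∀ n : ℕ, (AddMonoidHom.prod (resC (X.homOfLE (le_sup_left : U ≤ U ⊔ V)) M (n + 1))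
        (resC (X.homOfLE (le_sup_right : V ≤ U ⊔ V)) M (n + 1))).ker = (δ n).range) ∧
      (∀ n : ℕ, ((resC (X.homOfLE (inf_le_left : U ⊓ V ≤ U)) M n).comp (AddMonoidHom.fst _ _) -
          (resC (X.homOfLE (inf_le_right : U ⊓ V ≤ V)) M n).comp (AddMonoidHom.snd _ _)).ker =
        (AddMonoidHom.prod (resC (X.homOfLE (le_sup_left : U ≤ U ⊔ V)) M n)
          (resC (X.homOfLE (le_sup_right : V ≤ U ⊔ V)) M n)).range) ∧
      (∀ n : ℕ, (δ n).ker =
        ((resC (X.homOfLE (inf_le_left : U ⊓ V ≤ U)) M n).comp (AddMonoidHom.fst _ _) -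
          (resC (X.homOfLE (inf_le_right : U ⊓ V ≤ V)) M n).comp (AddMonoidHom.snd _ _)).range) := by
  have hr : ∀ {A B : X.Opens} (h : A ≤ B), Set.range (X.homOfLE h) = B.ι ⁻¹' (A : Set X) := by
    intro A B h
    have := congrArg (fun O : (B : Scheme.{u}).Opens => (O : Set (B : Scheme.{u}))) (X.opensRange_homOfLE h)
    exact this
  refine mv (X.homOfLE le_sup_left) (X.homOfLE le_sup_right)
    (X.homOfLE (inf_le_left.trans le_sup_left)) (X.homOfLE inf_le_left) (X.homOfLE inf_le_right)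
    (X.homOfLE_homOfLE _ _) (X.homOfLE_homOfLE _ _) ?_ ?_ M
  · rw [hr, hr, hr]
    rfl
  · rw [hr, hr]
    ext x
    simp only [Set.mem_union, Set.mem_preimage, Set.mem_univ, iff_true]
    exact x.2

/-- The effect of attaching a cell of codimension `c` on cohomology. -/
theorem attach (U V : X.Opens) (n c : ℕ) (hc : 0 < c)
    (hV : ∀ q, 0 < q → Subsingleton (HC (V : Scheme.{u}) (ZMod n) q))
    (hW : ∀ q, q ≠ 0 → q ≠ 2 * c - 1 → Subsingleton (HC (↑(U ⊓ V) : Scheme.{u}) (ZMod n) q))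
    (hW' : Nonempty (HC (↑(U ⊓ V) : Scheme.{u}) (ZMod n) (2 * c - 1) ≃+ ZMod n))
    (h0 : Function.Surjective (resC (X.homOfLE (inf_le_right : U ⊓ V ≤ V)) (ZMod n) 0)) :
    (∀ q, Odd q → Subsingleton (HC (U : Scheme.{u}) (ZMod n) q) →
      Subsingleton (HC (↑(U ⊔ V) : Scheme.{u}) (ZMod n) q)) ∧
    (∀ q, 0 < q → q ≠ 2 * c → q ≠ 2 * c - 1 →
      Nonempty (HC (↑(U ⊔ V) : Scheme.{u}) (ZMod n) q ≃+ HC (U : Scheme.{u}) (ZMod n) q)) ∧
    (Subsingleton (HC (U : Scheme.{u}) (ZMod n) (2 * c - 1)) →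
      ∃ (f : ZMod n →+ HC (↑(U ⊔ V) : Scheme.{u}) (ZMod n) (2 * c))
        (g : HC (↑(U ⊔ V) : Scheme.{u}) (ZMod n) (2 * c) →+ HC (U : Scheme.{u}) (ZMod n) (2 * c)),
        Function.Injective f ∧ Function.Surjective g ∧ g.ker = f.range) := by
  obtain ⟨δ, -, h1, h2, h3⟩ := mv_opens U V (ZMod n)
  have hinj : ∀ q, q + 1 ≠ 2 * c → Function.Injective
      (resC (X.homOfLE (le_sup_left : U ≤ U ⊔ V)) (ZMod n) (q + 1)) := by
    intro q hq
    refine StepAbs.injective_of _ _ _ _ δ h1 h3 q (hV (q + 1) (by omega)) ?_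
    rcases Nat.eq_zero_or_pos q with rfl | hq0
    · exact Or.inl h0
    · exact Or.inr (hW q (by omega) (by omega))
  have hsurj : ∀ q, q ≠ 0 → q ≠ 2 * c - 1 → Function.Surjective
      (resC (X.homOfLE (le_sup_left : U ≤ U ⊔ V)) (ZMod n) q) := by
    intro q hq hq'
    exact StepAbs.surjective_of _ _ _ _ h2 q (hW q hq hq')
  refine ⟨?_, ?_, ?_⟩
  · intro q hq hs
    obtain ⟨q, rfl⟩ : ∃ p, q = p + 1 := ⟨q - 1, by have := hq.pos; omega⟩
    exact (hinj q (by rcases hq with ⟨a, ha⟩; omega)).subsingleton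
  · intro q hq hq1 hq2
    obtain ⟨q, rfl⟩ : ∃ p, q = p + 1 := ⟨q - 1, by omega⟩
    exact ⟨AddEquiv.ofBijective _ ⟨hinj q hq1, hsurj (q + 1) (by omega) hq2⟩⟩
  · intro hs
    obtain ⟨e⟩ := hW'
    obtain ⟨p, hp⟩ : ∃ p, 2 * c = p + 1 := ⟨2 * c - 1, by omega⟩
    have hp' : 2 * c - 1 = p := by omega
    rw [hp'] at hs e hsurj
    rw [hp]
    have hp0 : 0 < p := by omega
    obtain ⟨h4, h5⟩ := StepAbs.exact_of _ _ _ _ δ h1 h3 p (hV (p + 1) (by omega)) hs (hV p hp0)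
    refine ⟨(δ p).comp e.symm.toAddMonoidHom, resC (X.homOfLE (le_sup_left : U ≤ U ⊔ V)) (ZMod n) (p + 1),
      h4.comp e.symm.injective, hsurj (p + 1) (by omega) (by omega), ?_⟩
    rw [h5]
    ext x
    constructor
    · rintro ⟨y, rfl⟩
      exact ⟨e y, congrArg (δ p) (e.symm_apply_apply y)⟩
    · rintro ⟨y, rfl⟩
      exact ⟨e.symm y, rfl⟩

end Groth.Agent.Lefpen.H719.Attach
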