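import Groth.Agent.Lefpen.H719.MVConst
import Groth.Agent.Sga4B.ConstLC

/-!
# Degree zero cohomology with constant coefficients

* `resC_zero_surjective`: for `X` connected, `H^0(Y, M) ⟶ H^0(X, M)` is surjective for every `X ⟶ Y`.
-/

set_option autoImplicit false
universe u

open CategoryTheory CategoryTheory.Limits AlgebraicGeometry Opposite

namespace Groth.Agent.Lefpen.H719.H0Const

open Groth.Agent.Lefpen.H719.MVConst Groth.Agent.Sga4B.ConstLC

/-- The unit of the constant sheaf adjunction followed by the comparison with locally constant functions. -/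
theorem unit_constToLC (X : Scheme.{u}) (A : Type (u + 1)) [AddCommGroup A] :
    (EtCore.constAdj X).unit.app (AddCommGrpCat.of A) ≫ (constToLC X A).hom.app (op (EtCoh.top X)) =
      constSec A (EtCoh.top X) := by
  have h := congrArg (fun t => t.app (op (EtCoh.top X))) (toSheafify_constToLC X A)
  refine Eq.trans ?_ h
  rw [NatTrans.comp_app]
  congr 1

theorem unit_surjective (X : Scheme.{u}) [ConnectedSpace X] (A : Type (u + 1)) [AddCommGroup A] :
    Function.Surjective ((EtCore.constAdj X).unit.app (AddCommGrpCat.of A)) := by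
  intro s
  let t : LocallyConstant X A := (constToLC X A).hom.app (op (EtCoh.top X)) s
  let x0 : X := Classical.arbitrary X
  have hb : Function.Injective ((constToLC X A).hom.app (op (EtCoh.top X))) := by
    have h1 : IsIso ((constToLC X A).hom.app (op (EtCoh.top X))) :=
      inferInstanceAs (IsIso (((sheafToPresheaf _ _).map (constToLC X A)).app _))
    exact (ConcreteCategory.bijective_of_isIso _).1
  refine ⟨t x0, hb ?_⟩
  have h2 := congrArg (fun φ => φ.hom (t x0)) (unit_constToLC X A)
  refine Eq.trans h2 ?_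
  apply LocallyConstant.ext
  intro x
  exact (t.isLocallyConstant.apply_eq_of_preconnectedSpace x0 x)

/-- Morphisms between constant sheaves on a connected scheme are constant. -/
theorem exists_map_eq (X : Scheme.{u}) [ConnectedSpace X] (M : Type) [AddCommGroup M]
    (φ : EtCoh.const X ℤ ⟶ EtCoh.const X M) :
    ∃ ψ : AddCommGrpCat.of (ULift.{u + 1} ℤ) ⟶ AddCommGrpCat.of (ULift.{u + 1} M),
      (constantSheaf X.smallEtaleTopology AddCommGrpCat.{u + 1}).map ψ = φ := by
  obtain ⟨m, hm⟩ := unit_surjective X (ULift.{u + 1} M)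
    ((EtCore.constAdj X).homEquiv _ _ φ (ULift.up (1 : ℤ)))
  refine ⟨AddCommGrpCat.ofHom
    (((zmultiplesHom (ULift.{u + 1} M)) m).comp (AddEquiv.ulift.toAddMonoidHom)), ?_⟩
  apply ((EtCore.constAdj X).homEquiv _ _).injective
  have h1 := (EtCore.constAdj X).unit.naturality (AddCommGrpCat.ofHom
    (((zmultiplesHom (ULift.{u + 1} M)) m).comp (AddEquiv.ulift.toAddMonoidHom)))
  refine Eq.trans (Adjunction.homEquiv_unit _ _ _ _) ?_
  refine Eq.trans h1.symm ?_
  apply AddCommGrpCat.hom_ext
  apply AddMonoidHom.ext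
  rintro ⟨z⟩
  have h2 : (ULift.up z : ULift.{u + 1} ℤ) = z • (ULift.up (1 : ℤ)) := by
    apply ULift.down_injective
    simp
  have h3 : ((EtCore.constAdj X).homEquiv _ _ φ).hom (ULift.up z : ULift.{u + 1} ℤ) =
      z • ((EtCore.constAdj X).homEquiv _ _ φ).hom (ULift.up (1 : ℤ)) := by
    rw [h2, map_zsmul]
  refine Eq.trans ?_ h3.symm
  have h4 : ((EtCore.constAdj X).unit.app (AddCommGrpCat.of (ULift.{u + 1} M))).hom (z • m) =
      z • ((EtCore.constAdj X).unit.app (AddCommGrpCat.of (ULift.{u + 1} M))).hom m := map_zsmul _ _ _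
  exact h4.trans (congrArg (fun t => z • t) hm)

/-- A connected scheme: all classes of degree zero come from any target. -/
theorem resC_zero_surjective {X Y : Scheme.{u}} [ConnectedSpace X] (f : X ⟶ Y) (M : Type) [AddCommGroup M] :
    Function.Surjective (resC f M 0) := by
  intro x
  obtain ⟨φ, rfl⟩ := (Abelian.Ext.mk₀_bijective _ _).2 x
  obtain ⟨ψ, rfl⟩ := exists_map_eq X M φ
  refine ⟨Abelian.Ext.mk₀ ((constantSheaf Y.smallEtaleTopology AddCommGrpCat.{u + 1}).map ψ), ?_⟩
  change (((Abelian.Ext.mk₀ (EtCore.pullConst f ℤ).inv).comp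
    (Abelian.Ext.mapExactFunctor (EtCoh.pull f) (Abelian.Ext.mk₀
      ((constantSheaf Y.smallEtaleTopology AddCommGrpCat.{u + 1}).map ψ))) (zero_add 0)).comp
        (Abelian.Ext.mk₀ (EtCore.pullConst f M).hom) (add_zero 0)) = _
  rw [Abelian.Ext.mapExactFunctor_mk₀, Abelian.Ext.mk₀_comp_mk₀, Abelian.Ext.mk₀_comp_mk₀]
  congr 1
  have h := (EtCore.pullConstIso f).hom.naturality ψ
  rw [Category.assoc, Iso.inv_comp_eq]
  exact h

end Groth.Agent.Lefpen.H719.H0Const
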