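import Groth.Agent.Lefpen.H719.PointPure
import Groth.Agent.Lefpen.H719.H0Const
import Groth.Agent.Lefpen.H719.Attach
import Groth.Agent.Etrest.HpullAcyc
import Groth.Agent.Sga4h.AcycComp
import Groth.Agent.EtpbcA.CdExact
import Groth.Agent.Sga5.ProjSmooth
import Groth.Agent.S3117
import Mathlib.AlgebraicGeometry.AffineSpace
import Mathlib.Algebra.MvPolynomial.Equiv

/-!
# Cohomology of affine spaces and of complements of linear subspaces in them

Over a separably closed field `k`, with coefficients `ℤ/n`, `n ≠ 0` in `k`.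
-/

set_option autoImplicit false
universe u

open CategoryTheory CategoryTheory.Limits AlgebraicGeometry Opposite

namespace Groth.Agent.Lefpen.H719.AffCell

open Groth.Agent.Sga4h.Acyc Groth.Agent.Lefpen.H719.MVConst Groth.Agent.Lefpen.H719.PointPure

section Acyc

/-- `Spec B[x_1, …, x_m]` is affine space over `Spec B`. -/
noncomputable def affIso (B : CommRingCat.{u}) (m : ℕ) : 𝔸(ULift.{u} (Fin m); Spec B) ≅
    Spec (CommRingCat.of (MvPolynomial (Fin m) B)) :=
  AffineSpace.SpecIso (ULift.{u} (Fin m)) B ≪≫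
    Scheme.Spec.mapIso (MvPolynomial.renameEquiv B
      (Equiv.ulift.{u} (α := Fin m)).symm).toRingEquiv.toCommRingCatIso.op

/-- The projection. -/
noncomputable abbrev pr (B : CommRingCat.{u}) (m : ℕ) :
    Spec (CommRingCat.of (MvPolynomial (Fin m) B)) ⟶ Spec B :=
  Spec.map (CommRingCat.ofHom (MvPolynomial.C : B →+* MvPolynomial (Fin m) B))

theorem affIso_pr (B : CommRingCat.{u}) (m : ℕ) :
    (affIso B m).hom ≫ pr B m = 𝔸(ULift.{u} (Fin m); Spec B) ↘ Spec B := by
  have h := AffineSpace.SpecIso_inv_over (n := ULift.{u} (Fin m)) B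
  rw [Iso.inv_comp_eq] at h
  rw [h, affIso, Iso.trans_hom, Category.assoc]
  congr 1
  change Spec.map _ ≫ Spec.map _ = Spec.map _
  rw [← Spec.map_comp]
  congr 1
  apply CommRingCat.hom_ext
  apply RingHom.ext
  intro b
  change (MvPolynomial.renameEquiv B (Equiv.ulift.{u} (α := Fin m)).symm) (MvPolynomial.C b) =
    MvPolynomial.C b
  exact (MvPolynomial.renameEquiv B (Equiv.ulift.{u} (α := Fin m)).symm).commutes b

theorem acyc_of_isIso {X Y : Scheme.{u}} (f : X ⟶ Y) [IsIso f] (F : EtCoh.Ab Y) : Acyc f F := by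
  have h := Groth.Agent.EtpbcA.CdExact.push_isEquivalence_of_isIso f
  refine ⟨inferInstance, fun q hq => ?_⟩
  obtain ⟨m, rfl⟩ : ∃ m, q = m + 1 := ⟨q - 1, by omega⟩
  exact Groth.Agent.EtpbcA.CdExact.isZero_rightDerived_of_epi (EtCoh.push f) m _

/-- Acyclicity of `X' ⟶ Y'` for every cartesian square over `Spec B[x_1, …, x_m] ⟶ Spec B`. -/
theorem acyc_of_isPullback {B : CommRingCat.{u}} (m : ℕ) {X' Y' : Scheme.{u}}
    {gX : X' ⟶ Spec (CommRingCat.of (MvPolynomial (Fin m) B))}
    {f' : X' ⟶ Y'} {gY : Y' ⟶ Spec B} (h : IsPullback gX f' (pr B m) gY) (n : ℕ)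
    (hn : IsUnit (n : Γ(Y', ⊤))) (F : EtCoh.Ab Y') (hF : EtCoh.KilledBy n F) : Acyc f' F := by
  have h1 := AffineSpace.isPullback_map (n := ULift.{u} (Fin m)) gY
  have h2 : IsPullback (gX ≫ (affIso B m).inv) f' (𝔸(ULift.{u} (Fin m); Spec B) ↘ Spec B) gY := by
    refine h.of_iso (Iso.refl _) (affIso B m).symm (Iso.refl _) (Iso.refl _) ?_ ?_ ?_ ?_ <;>
      simp [← affIso_pr]
  have e : f' = (h2.isoIsPullback _ _ h1).hom ≫ (𝔸(ULift.{u} (Fin m); Y') ↘ Y') :=
    (IsPullback.isoIsPullback_hom_snd _ _ _ _).symm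
  rw [e]
  exact (Sga4h.AcycComp.acyc_comp_iff _ _ _ (acyc_of_isIso _ _)).2
    (Groth.Agent.S3117.result Y' m n hn F hF)

theorem resC_bijective_of_acyc {X Y : Scheme.{u}} (f : X ⟶ Y) (M : Type) [AddCommGroup M]
    (h : Acyc f (EtCoh.const Y M)) (q : ℕ) : Function.Bijective (resC f M q) :=
  (cmp f M q).bijective.comp
    (Etrest.HpullAcyc.Hpull_bijective f (EtCoh.const Y M) h.1 h.2 q)

end Acyc

variable (k : Type u) [Field k] [IsSepClosed k] (n : ℕ) (hn : (n : k) ≠ 0)

section Affine

include hn in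
/-- The cohomology of affine space vanishes in positive degrees. -/
theorem subsingleton_aff (m q : ℕ) (hq : 0 < q) :
    Subsingleton (HC (Spec (CommRingCat.of (MvPolynomial (Fin m) k))) (ZMod n) q) := by
  have h : IsPullback (𝟙 _) (pr (CommRingCat.of k) m) (pr (CommRingCat.of k) m) (𝟙 _) :=
    IsPullback.of_horiz_isIso ⟨by simp⟩
  have h1 := acyc_of_isPullback m h n (isUnit_natCast (𝟙 _) n hn) (EtCoh.const _ (ZMod n))
    (Etrest.ConstBasic.killedBy_const _ (ZMod n) n (fun a => by simp))
  have h2 := resC_bijective_of_acyc _ (ZMod n) h1 q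
  have h3 := Etrest.SHPoint.subsingleton_H_of_sepClosed k
    (EtCoh.const (Spec (CommRingCat.of k)) (ZMod n)) q hq
  exact (Equiv.ofBijective _ h2).symm.subsingleton

/-- The complement of the origin. -/
noncomputable def punct (c : ℕ) : (Spec (CommRingCat.of (MvPolynomial (Fin c) k))).Opens :=
  ⨆ l : Fin c, PrimeSpectrum.basicOpen (MvPolynomial.X l)

/-- The origin. -/
noncomputable abbrev origin (c : ℕ) : Spec (CommRingCat.of k) ⟶
    Spec (CommRingCat.of (MvPolynomial (Fin c) k)) :=
  Spec.map (CommRingCat.ofHom (MvPolynomial.constantCoeff : MvPolynomial (Fin c) k →+* k))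

omit [IsSepClosed k] in
theorem constantCoeff_surjective (c : ℕ) :
    Function.Surjective (MvPolynomial.constantCoeff : MvPolynomial (Fin c) k →+* k) :=
  fun a => ⟨MvPolynomial.C a, MvPolynomial.constantCoeff_C _ a⟩

instance (c : ℕ) : IsClosedImmersion (origin k c) :=
  IsClosedImmersion.spec_of_surjective _ (constantCoeff_surjective k c)

omit [IsSepClosed k] in
theorem origin_pr (c : ℕ) : origin k c ≫ pr (CommRingCat.of k) c = 𝟙 _ := by
  rw [← Spec.map_comp, ← Spec.map_id]
  congr 1
  apply CommRingCat.hom_ext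
  apply RingHom.ext
  intro b
  exact MvPolynomial.constantCoeff_C _ b

omit [IsSepClosed k] in
theorem mem_of_constantCoeff (c : ℕ) (I : Ideal (MvPolynomial (Fin c) k))
    (h : ∀ l, MvPolynomial.X l ∈ I) (p : MvPolynomial (Fin c) k)
    (hp : MvPolynomial.constantCoeff p = 0) : p ∈ I := by
  rw [MvPolynomial.as_sum p]
  refine Ideal.sum_mem _ fun e he => ?_
  by_cases he0 : e = 0
  · subst he0
    have : p.coeff 0 = 0 := hp
    rw [this]
    simp
  · obtain ⟨l, hl⟩ : ∃ l, e l ≠ 0 := by
      by_contra hcon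
      push Not at hcon
      exact he0 (Finsupp.ext hcon)
    have h1 : MvPolynomial.monomial e (p.coeff e) =
        MvPolynomial.monomial (e - Finsupp.single l 1) (p.coeff e) * MvPolynomial.X l := by
      rw [MvPolynomial.X, MvPolynomial.monomial_mul, mul_one]
      congr 1
      rw [tsub_add_cancel_of_le]
      rw [Finsupp.single_le_iff]
      omega
    rw [h1]
    exact Ideal.mul_mem_left _ _ (h l)

omit [IsSepClosed k] in
theorem mem_iSup_iff (c : ℕ) (x : PrimeSpectrum (MvPolynomial (Fin c) k)) :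
    x ∈ (⨆ l : Fin c, PrimeSpectrum.basicOpen (MvPolynomial.X l) :
      TopologicalSpace.Opens (PrimeSpectrum (MvPolynomial (Fin c) k))) ↔
    x ∉ PrimeSpectrum.zeroLocus
      (RingHom.ker (MvPolynomial.constantCoeff : MvPolynomial (Fin c) k →+* k) :
        Set (MvPolynomial (Fin c) k)) := by
  rw [TopologicalSpace.Opens.mem_iSup, PrimeSpectrum.mem_zeroLocus, ← not_iff_not, not_not, not_exists]
  constructor
  · intro h p hp
    exact mem_of_constantCoeff k c x.asIdeal (fun l => not_not.1 (h l)) p hp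
  · intro h l hl
    exact hl (h (show MvPolynomial.X l ∈ RingHom.ker _ from MvPolynomial.constantCoeff_X _ l))

omit [IsSepClosed k] in
theorem range_punct (c : ℕ) : Set.range (punct k c).ι = (Set.range (origin k c))ᶜ := by
  rw [Scheme.Opens.range_ι]
  have h2 : Set.range (origin k c) = PrimeSpectrum.zeroLocus
      (RingHom.ker (MvPolynomial.constantCoeff : MvPolynomial (Fin c) k →+* k) :
        Set (MvPolynomial (Fin c) k)) :=
    _root_.range_comap_of_surjective _ _ (constantCoeff_surjective k c)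
  rw [h2]
  exact Set.ext fun x => mem_iSup_iff k c x

include hn in
theorem subsingleton_punct (c : ℕ) (hc : 0 < c) (q : ℕ) (hq : q ≠ 0) (hq' : q ≠ 2 * c - 1) :
    Subsingleton (HC (punct k c : Scheme.{u}) (ZMod n) q) := by
  have := Sga5.ProjSmooth.smooth_chart_toSpec c k
  exact subsingleton_compl (pr (CommRingCat.of k) c) c hc (origin k c) (origin_pr k c)
    (punct k c).ι (range_punct k c) n hn (fun q hq => subsingleton_aff k n hn c q hq) q hq hq'

include hn in
theorem nonempty_punct (c : ℕ) (hc : 0 < c) :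
    Nonempty (HC (punct k c : Scheme.{u}) (ZMod n) (2 * c - 1) ≃+ ZMod n) := by
  have := Sga5.ProjSmooth.smooth_chart_toSpec c k
  exact nonempty_compl (pr (CommRingCat.of k) c) c hc (origin k c) (origin_pr k c)
    (punct k c).ι (range_punct k c) n hn (fun q hq => subsingleton_aff k n hn c q hq)

end Affine

end Groth.Agent.Lefpen.H719.AffCell
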