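import Groth.Agent.Lefpen.H719.AffCell
import Groth.Agent.Etrest.HConstIso
import Mathlib.RingTheory.Polynomial.Basic

/-!
# Cells: `U ∪ (affine space)` where the intersection is the complement of a linear subspace
-/

set_option autoImplicit false
universe u

open CategoryTheory CategoryTheory.Limits AlgebraicGeometry Opposite

namespace Groth.Agent.Lefpen.H719.Cell

open Groth.Agent.Sga4h.Acyc Groth.Agent.Lefpen.H719.MVConst Groth.Agent.Lefpen.H719.PointPure
  Groth.Agent.Lefpen.H719.AffCell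

variable (k : Type u) [Field k] [IsSepClosed k] (n : ℕ) (hn : (n : k) ≠ 0) (d c : ℕ)

/-- Affine space with coordinates `x_1, …, x_d, t_1, …, t_c`. -/
noncomputable abbrev AA : Scheme.{u} := Spec (CommRingCat.of (MvPolynomial (Fin d ⊕ Fin c) k))

/-- The complement of `t_1 = … = t_c = 0`. -/
noncomputable def VV : (AA k d c).Opens :=
  ⨆ l : Fin c, PrimeSpectrum.basicOpen (MvPolynomial.X (Sum.inr l))

/-- The projection to the `t`-coordinates. -/
noncomputable def proj : AA k d c ⟶ Spec (CommRingCat.of (MvPolynomial (Fin c) k)) :=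
  Spec.map (CommRingCat.ofHom
    (MvPolynomial.rename (Sum.inr : Fin c → Fin d ⊕ Fin c)).toRingHom)

/-- `AA` as iterated affine space. -/
noncomputable def sumIso : Spec (CommRingCat.of (MvPolynomial (Fin d) (MvPolynomial (Fin c) k))) ≅ AA k d c :=
  Scheme.Spec.mapIso (MvPolynomial.sumAlgEquiv k (Fin d) (Fin c)).toRingEquiv.toCommRingCatIso.op

omit [IsSepClosed k] in
theorem sumIso_proj : (sumIso k d c).hom ≫ proj k d c =
    pr (CommRingCat.of (MvPolynomial (Fin c) k)) d := by
  change Spec.map _ ≫ Spec.map _ = Spec.map _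
  rw [← Spec.map_comp]
  congr 1
  apply CommRingCat.hom_ext
  apply MvPolynomial.ringHom_ext
  · intro r
    change (MvPolynomial.sumAlgEquiv k (Fin d) (Fin c)) (MvPolynomial.rename Sum.inr (MvPolynomial.C r)) =
      MvPolynomial.C (MvPolynomial.C r)
    rw [MvPolynomial.rename_C, MvPolynomial.sumAlgEquiv_C_inl]
  · intro l
    change (MvPolynomial.sumAlgEquiv k (Fin d) (Fin c)) (MvPolynomial.rename Sum.inr (MvPolynomial.X l)) =
      MvPolynomial.C (MvPolynomial.X l)
    rw [MvPolynomial.rename_X, MvPolynomial.sumAlgEquiv_X_inr]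

omit [IsSepClosed k] in
theorem proj_preimage : proj k d c ⁻¹ᵁ (punct k c) = VV k d c := by
  rw [punct, Scheme.Hom.preimage_iSup, VV]
  congr 1
  funext l
  change PrimeSpectrum.basicOpen ((MvPolynomial.rename (Sum.inr : Fin c → Fin d ⊕ Fin c))
    (MvPolynomial.X l)) = _
  rw [MvPolynomial.rename_X]

omit [IsSepClosed k] in
include hn in
/-- `H^q(VV) = H^q(punct)`. -/
theorem nonempty_VV (q : ℕ) : Nonempty (HC (punct k c : Scheme.{u}) (ZMod n) q ≃+
    HC (VV k d c : Scheme.{u}) (ZMod n) q) := by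
  rw [← proj_preimage]
  have h0 := isPullback_morphismRestrict (proj k d c) (punct k c)
  have h : IsPullback ((proj k d c ⁻¹ᵁ (punct k c)).ι ≫ (sumIso k d c).inv)
      (proj k d c ∣_ (punct k c)) (pr (CommRingCat.of (MvPolynomial (Fin c) k)) d) (punct k c).ι := by
    refine h0.flip.of_iso (Iso.refl _) (sumIso k d c).symm (Iso.refl _) (Iso.refl _) ?_ ?_ ?_ ?_ <;>
      simp [← sumIso_proj]
  have h1 := acyc_of_isPullback (B := CommRingCat.of (MvPolynomial (Fin c) k)) d h n
    (isUnit_natCast ((punct k c).ι ≫ pr (CommRingCat.of k) c) n hn) (EtCoh.const _ (ZMod n))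
    (Etrest.ConstBasic.killedBy_const _ (ZMod n) n (fun a => by simp))
  exact ⟨AddEquiv.ofBijective _ (resC_bijective_of_acyc _ (ZMod n) h1 q)⟩

include hn in
theorem subsingleton_VV (hc : 0 < c) (q : ℕ) (hq : q ≠ 0) (hq' : q ≠ 2 * c - 1) :
    Subsingleton (HC (VV k d c : Scheme.{u}) (ZMod n) q) := by
  obtain ⟨e⟩ := nonempty_VV k n hn d c q
  have := subsingleton_punct k n hn c hc q hq hq'
  exact e.symm.toEquiv.subsingleton

include hn in
theorem nonempty_VV_top (hc : 0 < c) :
    Nonempty (HC (VV k d c : Scheme.{u}) (ZMod n) (2 * c - 1) ≃+ ZMod n) := by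
  obtain ⟨e⟩ := nonempty_VV k n hn d c (2 * c - 1)
  obtain ⟨e'⟩ := nonempty_punct k n hn c hc
  exact ⟨e.symm.trans e'⟩

/-- Reindexing the variables. -/
noncomputable def reIso : Spec (CommRingCat.of (MvPolynomial (Fin (d + c)) k)) ≅ AA k d c :=
  Scheme.Spec.mapIso (MvPolynomial.renameEquiv k
    (finSumFinEquiv : Fin d ⊕ Fin c ≃ Fin (d + c))).toRingEquiv.toCommRingCatIso.op

include hn in
theorem subsingleton_AA (q : ℕ) (hq : 0 < q) : Subsingleton (HC (AA k d c) (ZMod n) q) := by
  obtain ⟨e⟩ := Etrest.HConstIso.nonempty_HConst (reIso k d c) (ZMod n) q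
  have := subsingleton_aff k n hn (d + c) q hq
  exact e.toEquiv.subsingleton

omit [IsSepClosed k] in
theorem connectedSpace_VV (hc : 0 < c) : ConnectedSpace (VV k d c : Scheme.{u}) := by
  have h2 : ((VV k d c : (AA k d c).Opens) : Set (AA k d c)).Nonempty := by
    let x : PrimeSpectrum (MvPolynomial (Fin d ⊕ Fin c) k) := ⟨⊥, Ideal.isPrime_bot⟩
    have hx : x ∈ (⨆ l : Fin c, PrimeSpectrum.basicOpen (MvPolynomial.X (Sum.inr l)) :
          TopologicalSpace.Opens (PrimeSpectrum (MvPolynomial (Fin d ⊕ Fin c) k))) := by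
      rw [TopologicalSpace.Opens.mem_iSup]
      exact ⟨⟨0, hc⟩, fun h => MvPolynomial.X_ne_zero _ (Ideal.mem_bot.1 h)⟩
    exact ⟨x, hx⟩
  have h4 : IsIrreducible ((VV k d c : (AA k d c).Opens) : Set (AA k d c)) :=
    ⟨h2, (PreirreducibleSpace.isPreirreducible_univ).open_subset (VV k d c).2 (Set.subset_univ _)⟩
  have h3 : IrreducibleSpace (VV k d c : Scheme.{u}) := Subtype.irreducibleSpace h4
  infer_instance

end Groth.Agent.Lefpen.H719.Cell
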