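import Groth.Agent.Lefpen.H719.Cell

/-!
# Attaching a cell given by an open immersion of an affine space
-/

set_option autoImplicit false
universe u

open CategoryTheory CategoryTheory.Limits AlgebraicGeometry Opposite

namespace Groth.Agent.Lefpen.H719.CellX

open Groth.Agent.Lefpen.H719.MVConst Groth.Agent.Lefpen.H719.Cell Groth.Agent.Lefpen.H719.AffCell

theorem nonempty_HC_image {X Y : Scheme.{u}} (g : Y ⟶ X) [IsOpenImmersion g] (W : Y.Opens) (V : X.Opens)
    (h : g ''ᵁ W = V) (M : Type) [AddCommGroup M] (q : ℕ) :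
    Nonempty (HC (V : Scheme.{u}) M q ≃+ HC (W : Scheme.{u}) M q) := by
  subst h
  exact Etrest.HConstIso.nonempty_HConst (g.isoImage W) M q

theorem nonempty_HC_range {X Y : Scheme.{u}} (g : Y ⟶ X) [IsOpenImmersion g] (V : X.Opens)
    (h : g.opensRange = V) (M : Type) [AddCommGroup M] (q : ℕ) :
    Nonempty (HC (V : Scheme.{u}) M q ≃+ HC Y M q) := by
  subst h
  exact Etrest.HConstIso.nonempty_HConst g.isoOpensRange M q

theorem connectedSpace_image {X Y : Scheme.{u}} (g : Y ⟶ X) [IsOpenImmersion g] (W : Y.Opens) (V : X.Opens)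
    (h : g ''ᵁ W = V) [ConnectedSpace (W : Scheme.{u})] : ConnectedSpace (V : Scheme.{u}) := by
  subst h
  exact (g.isoImage W).hom.homeomorph.surjective.connectedSpace (g.isoImage W).hom.homeomorph.continuous

variable (k : Type u) [Field k] [IsSepClosed k] (n : ℕ) (hn : (n : k) ≠ 0)

include hn in
/-- Attaching a cell. -/
theorem attach_AA {X : Scheme.{u}} (U : X.Opens) (d c : ℕ) (hc : 0 < c) (g : AA k d c ⟶ X)
    [IsOpenImmersion g] (hg : g ⁻¹ᵁ U = VV k d c) :
    (∀ q, Odd q → Subsingleton (HC (U : Scheme.{u}) (ZMod n) q) →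
      Subsingleton (HC (↑(U ⊔ g.opensRange) : Scheme.{u}) (ZMod n) q)) ∧
    (∀ q, 0 < q → q ≠ 2 * c → q ≠ 2 * c - 1 →
      Nonempty (HC (↑(U ⊔ g.opensRange) : Scheme.{u}) (ZMod n) q ≃+ HC (U : Scheme.{u}) (ZMod n) q)) ∧
    (Subsingleton (HC (U : Scheme.{u}) (ZMod n) (2 * c - 1)) →
      ∃ (f : ZMod n →+ HC (↑(U ⊔ g.opensRange) : Scheme.{u}) (ZMod n) (2 * c))
        (h : HC (↑(U ⊔ g.opensRange) : Scheme.{u}) (ZMod n) (2 * c) →+ HC (U : Scheme.{u}) (ZMod n) (2 * c)),
        Function.Injective f ∧ Function.Surjective h ∧ h.ker = f.range) := by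
  have h1 : g ''ᵁ (VV k d c) = U ⊓ g.opensRange := by
    rw [← hg, Scheme.Hom.image_preimage_eq_opensRange_inf, inf_comm]
  have := connectedSpace_VV k d c hc
  have hconn : ConnectedSpace (↑(U ⊓ g.opensRange) : Scheme.{u}) := connectedSpace_image g _ _ h1
  refine Attach.attach U g.opensRange n c hc ?_ ?_ ?_ (H0Const.resC_zero_surjective _ _)
  · intro q hq
    obtain ⟨e⟩ := nonempty_HC_range g _ rfl (ZMod n) q
    have := subsingleton_AA k n hn d c q hq
    exact e.toEquiv.subsingleton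
  · intro q hq hq'
    obtain ⟨e⟩ := nonempty_HC_image g _ _ h1 (ZMod n) q
    have := subsingleton_VV k n hn d c hc q hq hq'
    exact e.toEquiv.subsingleton
  · obtain ⟨e⟩ := nonempty_HC_image g _ _ h1 (ZMod n) (2 * c - 1)
    obtain ⟨e'⟩ := nonempty_VV_top k n hn d c hc
    exact ⟨e.trans e'⟩

/-- Reindexing. -/
noncomputable def ren {σ τ : Type} (e : σ ≃ τ) : Spec (CommRingCat.of (MvPolynomial τ k)) ≅
    Spec (CommRingCat.of (MvPolynomial σ k)) :=
  Scheme.Spec.mapIso (MvPolynomial.renameEquiv k e).toRingEquiv.toCommRingCatIso.op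

omit [IsSepClosed k] in
theorem ren_preimage {σ τ : Type} (e : σ ≃ τ) (l : σ) :
    (ren k e).hom ⁻¹ᵁ (PrimeSpectrum.basicOpen (MvPolynomial.X l)) =
      PrimeSpectrum.basicOpen (MvPolynomial.X (e l)) := by
  change PrimeSpectrum.basicOpen (MvPolynomial.rename e (MvPolynomial.X l)) = _
  rw [MvPolynomial.rename_X]

include hn in
theorem subsingleton_spec {σ : Type} [Finite σ] (q : ℕ) (hq : 0 < q) :
    Subsingleton (HC (Spec (CommRingCat.of (MvPolynomial σ k))) (ZMod n) q) := by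
  obtain ⟨m, ⟨e⟩⟩ := Finite.exists_equiv_fin σ
  obtain ⟨e'⟩ := Etrest.HConstIso.nonempty_HConst (ren k e) (ZMod n) q
  have := subsingleton_aff k n hn m q hq
  exact e'.toEquiv.subsingleton

include hn in
/-- Attaching a cell, general coordinates. -/
theorem attach_cell {X : Scheme.{u}} (U : X.Opens) {σ : Type} [Finite σ] (P : σ → Prop) (c : ℕ)
    (hP : Nat.card {l // P l} = c) (hc : 0 < c)
    (g : Spec (CommRingCat.of (MvPolynomial σ k)) ⟶ X) [IsOpenImmersion g]
    (hg : g ⁻¹ᵁ U = ⨆ l : {l // P l}, PrimeSpectrum.basicOpen (MvPolynomial.X l.1)) :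
    (∀ q, Odd q → Subsingleton (HC (U : Scheme.{u}) (ZMod n) q) →
      Subsingleton (HC (↑(U ⊔ g.opensRange) : Scheme.{u}) (ZMod n) q)) ∧
    (∀ q, 0 < q → q ≠ 2 * c → q ≠ 2 * c - 1 →
      Nonempty (HC (↑(U ⊔ g.opensRange) : Scheme.{u}) (ZMod n) q ≃+ HC (U : Scheme.{u}) (ZMod n) q)) ∧
    (Subsingleton (HC (U : Scheme.{u}) (ZMod n) (2 * c - 1)) →
      ∃ (f : ZMod n →+ HC (↑(U ⊔ g.opensRange) : Scheme.{u}) (ZMod n) (2 * c))
        (h : HC (↑(U ⊔ g.opensRange) : Scheme.{u}) (ZMod n) (2 * c) →+ HC (U : Scheme.{u}) (ZMod n) (2 * c)),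
        Function.Injective f ∧ Function.Surjective h ∧ h.ker = f.range) := by
  classical
  subst hP
  let e1 : {l // P l} ≃ Fin (Nat.card {l // P l}) := Finite.equivFin _
  let e2 : {l // ¬ P l} ≃ Fin (Nat.card {l // ¬ P l}) := Finite.equivFin _
  let e : σ ≃ Fin (Nat.card {l // ¬ P l}) ⊕ Fin (Nat.card {l // P l}) :=
    (Equiv.sumCompl P).symm.trans ((Equiv.sumComm _ _).trans (Equiv.sumCongr e2 e1))
  have he : ∀ l : {l // P l}, e l.1 = Sum.inr (e1 l) := by
    intro l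
    simp [e]
  let g' : AA k (Nat.card {l // ¬ P l}) (Nat.card {l // P l}) ⟶ X := (ren k e).hom ≫ g
  have hg' : g' ⁻¹ᵁ U = VV k _ _ := by
    change (ren k e).hom ⁻¹ᵁ (g ⁻¹ᵁ U) = _
    rw [hg]
    refine (Scheme.Hom.preimage_iSup (ren k e).hom
      (fun l : {l // P l} => PrimeSpectrum.basicOpen (MvPolynomial.X l.1))).trans ?_
    refine Equiv.iSup_congr e1 fun l => ?_
    refine Eq.trans ?_ (ren_preimage k e l.1).symm
    rw [he]
  have hr : g'.opensRange = g.opensRange := Scheme.Hom.opensRange_comp_of_isIso _ _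
  have := attach_AA k n hn U _ _ hc g' hg'
  rw [hr] at this
  exact this

end Groth.Agent.Lefpen.H719.CellX
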