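import Groth.Agent.Lefpen.H705.ChartPoly

/-!
# Charts of a projective hypersurface

* `chart_preimage`: the preimage of `D_+(T_j)` in the chart `i`.
* `exists_chart`: for `φ : k[x_1, …, x_r] ↠ B` with kernel generated by the dehomogenized form there is a
  morphism `Spec B ⟶ V(G)` which is the base change of the `i`-th chart of projective space.
-/

set_option autoImplicit false
universe u

open CategoryTheory AlgebraicGeometry Limits TopologicalSpace Opposite

namespace Groth.Agent.Lefpen.H719.Chart

open LefPen Groth.Agent.Divis.IdealComap Groth.Agent.Fdesc.LocGen Groth.Agent.Lefpen.H705.HypIdeal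
open Groth.Agent.Lefpen.H705.ChartPoly
open Groth.Agent.Sga5

variable {r : ℕ} {k : Type u} [Field k] {d : ℕ}

/-- The preimage of a standard chart under another chart. -/
theorem chart_preimage (i j : Fin (r + 1)) :
    (ProjSmooth.chart r k i) ⁻¹ᵁ (LefPen.chart r k j) =
      PrimeSpectrum.basicOpen (ProjChart.dehom r k i (MvPolynomial.X j)) := by
  have h1 := Proj.awayι_preimage_basicOpen (CohB1.polyGrading r k) (LefPen.X_mem r k i) Nat.one_pos
    (LefPen.X_mem r k j) Nat.one_pos
  have h2 : (ProjSmooth.chart r k i) ⁻¹ᵁ (LefPen.chart r k j) =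
      Spec.map (CommRingCat.ofHom (ProjChart.chartEquiv r k i).symm.toRingHom) ⁻¹ᵁ
        ((Proj.awayι (CohB1.polyGrading r k) (MvPolynomial.X i) (LefPen.X_mem r k i) Nat.one_pos) ⁻¹ᵁ
          (Proj.basicOpen (CohB1.polyGrading r k) (MvPolynomial.X j))) := rfl
  rw [h2, h1, SpecMap_preimage_basicOpen]
  congr 1
  change (ProjChart.chartEquiv r k i).symm _ = _
  rw [RingEquiv.symm_apply_eq]
  have h3 := ofPoly_dehom (⟨MvPolynomial.X j, LefPen.X_mem r k j⟩ : Form r k 1) i
  refine Eq.trans ?_ h3.symm
  apply HomogeneousLocalization.val_injective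
  rw [HomogeneousLocalization.Away.val_mk, HomogeneousLocalization.Away.val_mk]
  congr 1
  exact pow_one _

theorem ker_appTop_specMap {A B : CommRingCat.{u}} (φ : A ⟶ B) (a : A)
    (hker : RingHom.ker φ.hom = Ideal.span {a}) :
    RingHom.ker (Spec.map φ).appTop.hom = Ideal.span {(Scheme.ΓSpecIso A).inv.hom a} := by
  let e := (Scheme.ΓSpecIso A).symm.commRingCatIsoToRingEquiv
  have he : ∀ y, e y = (Scheme.ΓSpecIso A).inv.hom y := fun y => rfl
  ext x
  obtain ⟨y, rfl⟩ := e.surjective x
  have h1 : (Spec.map φ).appTop.hom (e y) = (Scheme.ΓSpecIso B).inv.hom (φ.hom y) := by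
    have h := Scheme.ΓSpecIso_inv_naturality φ
    exact (congr($(h).hom y)).symm
  have h2 : Function.Injective (Scheme.ΓSpecIso B).inv.hom :=
    (ConcreteCategory.bijective_of_isIso (Scheme.ΓSpecIso B).inv).1
  rw [RingHom.mem_ker, h1, ← he a, Ideal.mem_span_singleton, map_dvd_iff, ← Ideal.mem_span_singleton,
    ← hker, RingHom.mem_ker]
  exact map_eq_zero_iff _ h2

/-- The pulled back ideal sheaf on a chart. -/
theorem comap_chart (G : Form r k d) (s : Fin (r + 1)) {B : CommRingCat.{u}}
    (φ : MvPolynomial (Fin r) k →+* B)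
    (hker : RingHom.ker φ = Ideal.span {ProjChart.dehom r k s G.1}) :
    (hypIdeal G).comap (ProjSmooth.chart r k s) =
      (Spec.map (CommRingCat.ofHom φ)).ker := by
  apply Scheme.IdealSheafData.ext_of_isAffine
  have h1 := ideal_comap (hypIdeal G) (ProjSmooth.chart r k s)
    ⟨LefPen.chart r k s, isAffineOpen_chart s⟩ ⟨⊤, isAffineOpen_top _⟩ (top_le_preimage s)
  refine h1.trans ?_
  rw [hypIdeal_ideal_of_le G s ⟨LefPen.chart r k s, isAffineOpen_chart s⟩ le_rfl, Ideal.map_span,
    Set.image_singleton]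
  have h2 : (ores (le_rfl : LefPen.chart r k s ≤ LefPen.chart r k s) (dehom G s)) = dehom G s := ores_refl _
  have h3 := chart_appLE_dehom G s
  have h4 : Ideal.span {((ProjSmooth.chart r k s).appLE (LefPen.chart r k s) ⊤ (top_le_preimage s)).hom
      (ores (le_rfl : LefPen.chart r k s ≤ LefPen.chart r k s) (dehom G s))} =
      RingHom.ker (Spec.map (CommRingCat.ofHom φ)).appTop.hom := by
    rw [h2, h3, ker_appTop_specMap _ _ hker]
  have h5 : (Spec.map (CommRingCat.ofHom φ)).ker.ideal ⟨⊤, isAffineOpen_top _⟩ =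
      RingHom.ker (Spec.map (CommRingCat.ofHom φ)).appTop.hom := by
    rw [Scheme.ker_of_isAffine]
    simp
  exact h4.trans h5.symm

/-- The base change of a standard chart to the hypersurface. -/
theorem exists_chart (G : Form r k d) (s : Fin (r + 1)) {B : CommRingCat.{u}}
    (φ : MvPolynomial (Fin r) k →+* B) (hφ : Function.Surjective φ)
    (hker : RingHom.ker φ = Ideal.span {ProjChart.dehom r k s G.1}) :
    ∃ g : Spec B ⟶ (hypIdeal G).subscheme,
      IsPullback (Spec.map (CommRingCat.ofHom φ)) g (ProjSmooth.chart r k s) (hypIdeal G).subschemeι := by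
  have h1 := comap_chart G s φ hker
  have : IsClosedImmersion (Spec.map (CommRingCat.ofHom φ)) := IsClosedImmersion.spec_of_surjective _ hφ
  have h2 : (hypIdeal G).subschemeι.ker ≤ (Spec.map (CommRingCat.ofHom φ) ≫ ProjSmooth.chart r k s).ker := by
    rw [Scheme.IdealSheafData.ker_subschemeι]
    have h3 := Scheme.IdealSheafData.le_map_iff_comap_le.2 h1.le
    refine h3.trans (le_of_eq ?_)
    have h4 : Spec.map (CommRingCat.ofHom φ) ≫ ProjSmooth.chart r k s =
        (Spec.map (CommRingCat.ofHom φ)).toImage ≫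
          ((Spec.map (CommRingCat.ofHom φ)).imageι ≫ ProjSmooth.chart r k s) := by
      rw [Scheme.Hom.toImage_imageι_assoc]
    rw [h4, Scheme.Hom.ker_comp_of_isIso]
    rfl
  refine ⟨IsClosedImmersion.lift _ _ h2, isPullback_of_isClosedImmersion _ _ _ _ ?_ ?_⟩
  · rw [IsClosedImmersion.lift_fac]
  · rw [Scheme.IdealSheafData.ker_subschemeι, h1]

end Groth.Agent.Lefpen.H719.Chart
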