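import Groth.Agent.Etcore.MVEt
import Groth.Agent.Etcore.MVExtAbs
import Groth.Agent.Etcore.HpullCalc
import Groth.Agent.S0101
import Groth.Agent.Sga4B.HTools

/-!
# Cohomology with constant coefficients and Mayer-Vietoris

* `HC X M n = H^n(X, M)`, `resC f M n : HC Y M n →+ HC X M n` for `f : X ⟶ Y`;
* `mv`: the Mayer-Vietoris sequence for open immersions `j : U ⟶ X`, `k : V ⟶ X` with intersection `W`.
-/

set_option autoImplicit false
set_option backward.isDefEq.respectTransparency false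
set_option backward.isDefEq.respectTransparency.types false
universe u

open CategoryTheory CategoryTheory.Limits AlgebraicGeometry Opposite CategoryTheory.Abelian

namespace Groth.Agent.Lefpen.H719.MVConst

open Groth.Agent.Etcore.PullCoh Groth.Agent.Etcore.MVEt Groth.Agent.Etcore.MVShriek

instance pull_preservesFiniteLimits {X Y : Scheme.{u}} (f : X ⟶ Y) :
    PreservesFiniteLimits (EtCoh.pull f) := Groth.Agent.S0101.result f

/-- `H^n(X, M)` -/
noncomputable abbrev HC (X : Scheme.{u}) (M : Type) [AddCommGroup M] (n : ℕ) : Type (u + 1) :=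
  EtCoh.H X (EtCoh.const X M) n

variable {X Y U V W : Scheme.{u}}

/-- The pullback `H^n(Y, M) ⟶ H^n(X, M)` along `f : X ⟶ Y`. -/
noncomputable def resC (f : X ⟶ Y) (M : Type) [AddCommGroup M] (n : ℕ) : HC Y M n →+ HC X M n :=
  ((EtCoh.HF X n).map (EtCore.pullConst f M).hom).hom.comp (EtCore.Hpull f (EtCoh.const Y M) n)

theorem resC_apply (f : X ⟶ Y) (M : Type) [AddCommGroup M] (n : ℕ) (x : HC Y M n) :
    resC f M n x = ((EtCoh.HF X n).map (EtCore.pullConst f M).hom).hom (EtCore.Hpull f (EtCoh.const Y M) n x) :=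
  rfl

/-- `H^n(U, j^{-1} M) ≃ H^n(U, M)`. -/
noncomputable def cmp (j : U ⟶ X) (M : Type) [AddCommGroup M] (n : ℕ) :
    EtCoh.H U ((EtCoh.pull j).obj (EtCoh.const X M)) n ≃+ HC U M n :=
  ((EtCoh.HF U n).mapIso (EtCore.pullConst j M)).addCommGroupIsoToAddEquiv

theorem cmp_apply (j : U ⟶ X) (M : Type) [AddCommGroup M] (n : ℕ)
    (x : EtCoh.H U ((EtCoh.pull j).obj (EtCoh.const X M)) n) :
    cmp j M n x = ((EtCoh.HF U n).map (EtCore.pullConst j M).hom).hom x := rfl

theorem resC_eq_cmp (f : X ⟶ Y) (M : Type) [AddCommGroup M] (n : ℕ) (x : HC Y M n) :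
    resC f M n x = cmp f M n (EtCore.Hpull f (EtCoh.const Y M) n x) := rfl

theorem Hpull_map (f : X ⟶ Y) {G G' : EtCoh.Ab Y} (t : G ⟶ G') (n : ℕ) (e : EtCoh.H Y G n) :
    EtCore.Hpull f G' n (((EtCoh.HF Y n).map t).hom e) =
      ((EtCoh.HF X n).map ((EtCoh.pull f).map t)).hom (EtCore.Hpull f G n e) := by
  change (Ext.mk₀ (EtCore.pullConst f ℤ).inv).comp
      (Ext.mapExactFunctor (EtCoh.pull f) (e.comp (Ext.mk₀ t) (add_zero n))) (zero_add n) =
    ((Ext.mk₀ (EtCore.pullConst f ℤ).inv).comp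
      (Ext.mapExactFunctor (EtCoh.pull f) e) (zero_add n)).comp
        (Ext.mk₀ ((EtCoh.pull f).map t)) (add_zero n)
  rw [Ext.mapExactFunctor_comp, Ext.mapExactFunctor_mk₀, Ext.comp_assoc_of_third_deg_zero]

theorem HF_map_comp_apply {F G H : EtCoh.Ab X} (a : F ⟶ G) (b : G ⟶ H) (n : ℕ) (x : EtCoh.H X F n) :
    ((EtCoh.HF X n).map (a ≫ b)).hom x = ((EtCoh.HF X n).map b).hom (((EtCoh.HF X n).map a).hom x) := by
  rw [Functor.map_comp]; rfl

/-- `resC` computes the relative pullback `HpullVia` for the constant sheaf. -/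
theorem resC_cmp (a : W ⟶ U) (j : U ⟶ X) (w : W ⟶ X) (hw : a ≫ j = w) (M : Type) [AddCommGroup M]
    (n : ℕ) (y : EtCoh.H U ((EtCoh.pull j).obj (EtCoh.const X M)) n) :
    resC a M n (cmp j M n y) = cmp w M n (EtCore.HpullVia a j w hw (EtCoh.const X M) n y) := by
  have h1 : EtCore.HpullVia a j w hw (EtCoh.const X M) n y =
      ((EtCoh.HF W n).map (th a j w hw (EtCoh.const X M))).hom (EtCore.Hpull a _ n y) := rfl
  rw [h1, resC_apply, cmp_apply, cmp_apply, Hpull_map, ← HF_map_comp_apply, ← HF_map_comp_apply,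
    pullConst_comp a j w hw M]

/-- Mayer-Vietoris with constant coefficients. -/
theorem mv (j : U ⟶ X) (k : V ⟶ X) (w : W ⟶ X) (a : W ⟶ U) (b : W ⟶ V) (ha : a ≫ j = w)
    (hb : b ≫ k = w) [IsOpenImmersion j] [IsOpenImmersion k] [IsOpenImmersion w]
    (hW : Set.range w = Set.range j ∩ Set.range k) (hcov : Set.range j ∪ Set.range k = Set.univ)
    (M : Type) [AddCommGroup M] :
    ∃ δ : ∀ n : ℕ, HC W M n →+ HC X M (n + 1),
      (AddMonoidHom.prod (resC j M 0) (resC k M 0)).ker = ⊥ ∧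
      (∀ n : ℕ, (AddMonoidHom.prod (resC j M (n + 1)) (resC k M (n + 1))).ker = (δ n).range) ∧
      (∀ n : ℕ, ((resC a M n).comp (AddMonoidHom.fst _ _) - (resC b M n).comp (AddMonoidHom.snd _ _)).ker =
        (AddMonoidHom.prod (resC j M n) (resC k M n)).range) ∧
      (∀ n : ℕ, (δ n).ker =
        ((resC a M n).comp (AddMonoidHom.fst _ _) - (resC b M n).comp (AddMonoidHom.snd _ _)).range) := by
  let F := EtCoh.const X M
  exact Groth.Agent.Etcore.MVExtAbs.exists_δ _ _ _ _ _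
    (Groth.Agent.Etcore.MVShriek.shortExact_mv j k w hW (EtCoh.const X ℤ) hcov)
    (fun n => (Groth.Agent.Etcore.MVEt.ψ w F n).trans (cmp w M n))
    (fun n => (Groth.Agent.Etcore.MVEt.ψ j F n).trans (cmp j M n))
    (fun n => (Groth.Agent.Etcore.MVEt.ψ k F n).trans (cmp k M n))
    (resC j M) (resC k M)
    (fun n e => (resC_eq_cmp j M n e).trans (congrArg (cmp j M n) (Groth.Agent.Etcore.MVEt.Hpull_eq j F n e)))
    (fun n e => (resC_eq_cmp k M n e).trans (congrArg (cmp k M n) (Groth.Agent.Etcore.MVEt.Hpull_eq k F n e)))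
    (resC a M) (resC b M)
    (fun n e => (resC_cmp a j w ha M n _).trans (congrArg (cmp w M n)
      (Groth.Agent.Etcore.MVEt.HpullVia_ψ a j w ha _ F n e)))
    (fun n e => (resC_cmp b k w hb M n _).trans (congrArg (cmp w M n)
      (Groth.Agent.Etcore.MVEt.HpullVia_ψ b k w hb _ F n e)))

end Groth.Agent.Lefpen.H719.MVConst
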