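import Groth.Agent.Sga4B.Pure
import Groth.Agent.Sga4B.PointConst
import Groth.Agent.Sga4B.SuppFun
import Groth.Agent.Sga4B.TwoRowEt
import Groth.Agent.Sga5.ClosedPush
import Groth.Agent.Etrest.SHPoint
import Groth.Agent.Etrest.ConstBasic
import Groth.Agent.Lefpen.H719.MVConst
import Groth.Agent.S3099
import Groth.Agent.S3101

/-!
# Purity at a rational point of a smooth scheme over a separably closed field

`X` smooth of relative dimension `c > 0` over `k` separably closed, `i` a `k`-point, `j : U ⟶ X` its complement,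
`H^q(X, ℤ/n) = 0` for `q > 0`: then `H^q(U, ℤ/n) = 0` for `q ≠ 0, 2c - 1` and `H^(2c-1)(U, ℤ/n) = ℤ/n`.
-/

set_option autoImplicit false
universe u

open CategoryTheory CategoryTheory.Limits AlgebraicGeometry Opposite

namespace Groth.Agent.Lefpen.H719.PointPure

open Groth.Agent.Sga4B.LocCohLocal Groth.Agent.Sga4B.Pure Groth.Agent.Lefpen.H719.MVConst

section LocIso

/-- Locally isomorphic sheaves on the spectrum of a separably closed field are isomorphic. -/
theorem nonempty_iso_of_locIso {k : Type u} [Field k] [IsSepClosed k]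
    {A B : EtCoh.Ab (Spec (CommRingCat.of k))} (h : LocIso A B) : Nonempty (A ≅ B) := by
  rw [locIso_iff_pull] at h
  obtain ⟨V, g, hg, v, -, ⟨e⟩⟩ := h (default : Spec (CommRingCat.of k))
  obtain ⟨l, hl, -⟩ := Scheme.exists_fac_of_etale_of_isSepClosed g (𝟙 (Spec (CommRingCat.of k))) v
    (Subsingleton.elim (α := Spec (CommRingCat.of k)) _ _)
  have e1 : EtCoh.pull g ⋙ EtCoh.pull l ≅ 𝟭 _ :=
    EtpbcA.PullFLC.pullComp l g ≪≫ EtpbcA.PullFLC.pullCongr hl ≪≫ EtpbcA.PullFLC.pullId _
  exact ⟨(e1.app A).symm ≪≫ (EtCoh.pull l).mapIso e ≪≫ e1.app B⟩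

/-- The cohomology of a zero sheaf vanishes. -/
theorem subsingleton_H_of_isZero {X : Scheme.{u}} {F : EtCoh.Ab X} (h : IsZero F) (n : ℕ) :
    Subsingleton (EtCoh.H X F n) :=
  Sheaf.subsingleton_H_of_isZero h n

theorem isZero_of_locIso {X : Scheme.{u}} {A B : EtCoh.Ab X} (h : LocIso A B) (hB : IsZero B) :
    IsZero A := by
  refine isZero_of_pull A fun x => ?_
  rw [locIso_iff_pull] at h
  obtain ⟨V, g, hg, v, hv, ⟨e⟩⟩ := h x
  exact ⟨V, g, hg, inferInstance, v, hv, (Functor.map_isZero _ hB).of_iso e⟩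

end LocIso

variable {k : Type u} [Field k] [IsSepClosed k] {X U : Scheme.{u}}
  (f : X ⟶ Spec (CommRingCat.of k)) (c : ℕ) (hc : 0 < c) [SmoothOfRelativeDimension c f]
  (i : Spec (CommRingCat.of k) ⟶ X) [IsClosedImmersion i] (w : i ≫ f = 𝟙 _)
  (j : U ⟶ X) [IsOpenImmersion j] (hU : Set.range j = (Set.range i)ᶜ)
  (n : ℕ) (hn : (n : k) ≠ 0)

include f hn in
omit [IsSepClosed k] [SmoothOfRelativeDimension c f] in
theorem isUnit_natCast : IsUnit (n : Γ(X, ⊤)) := by
  have h := (IsUnit.mk0 _ hn).map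
    (((Scheme.ΓSpecIso (CommRingCat.of k)).inv ≫ f.appTop).hom : k →+* Γ(X, ⊤))
  rwa [map_natCast] at h

include f hc w hU hn in
omit [IsSepClosed k] in
/-- purity, direct images -/
theorem pure_push : IsIso ((EtCoh.pullPushAdj j).unit.app (EtCoh.const X (ZMod n))) ∧
    ∀ q : ℕ, q ≠ 0 → q ≠ 2 * c - 1 →
      IsZero ((EtCoh.Rpush j q).obj ((EtCoh.pull j).obj (EtCoh.const X (ZMod n)))) := by
  have : NeZero n := ⟨by rintro rfl; simp at hn⟩
  have h0 : SmoothOfRelativeDimension (0 + c) f := by rwa [zero_add]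
  exact Groth.Agent.S3099.result f (𝟙 _) i 0 c hc w j hU n (isUnit_natCast f n hn)
    (EtCoh.const X (ZMod n)) (Etrest.ConstBasic.isFiniteLocallyConstant_const X (ZMod n))
    (Etrest.ConstBasic.killedBy_const X (ZMod n) n (fun a => by simp))

include f hc w hU hn in
/-- purity, the nonzero higher direct image -/
theorem pure_top : Nonempty ((EtCoh.Rpush j (2 * c - 1)).obj ((EtCoh.pull j).obj (EtCoh.const X (ZMod n))) ≅
    (EtCoh.push i).obj (EtCoh.const (Spec (CommRingCat.of k)) (ZMod n))) := by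
  have : NeZero n := ⟨by rintro rfl; simp at hn⟩
  have h0 : SmoothOfRelativeDimension (0 + c) f := by rwa [zero_add]
  obtain ⟨-, h2⟩ := Groth.Agent.S3101.result f (𝟙 _) i 0 c hc w j hU n (isUnit_natCast f n hn)
    (EtCoh.const X (ZMod n)) (Etrest.ConstBasic.isFiniteLocallyConstant_const X (ZMod n))
    (Etrest.ConstBasic.killedBy_const X (ZMod n) n (fun a => by simp))
  obtain ⟨e0⟩ := Groth.Agent.Sga4B.SuppFun.nonempty_locCoh_iso j (2 * c - 1) (by omega)
    (EtCoh.const X (ZMod n))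
  have hc' : 2 * c - 1 + 1 = 2 * c := by omega
  rw [hc'] at e0
  let L := (EtDual.locCoh j (2 * c)).obj (EtCoh.const X (ZMod n))
  have hL : LocIso L ((EtCoh.push i).obj ((EtCoh.pull i).obj (EtCoh.const X (ZMod n)))) := h2
  -- `L` is supported at the point
  have hcompl : IsCompl (Set.range i) (Set.range j) := by rw [hU]; exact isCompl_compl
  have := Groth.Agent.Sga4h.EtaleRes.jCont j
  have z1 : IsZero ((EtShriek.restrAlong j).obj L) :=
    isZero_of_locIso (LocIso.restrAlong hL j)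
      (Etcore.OpenClosed.isZero_restr_push i j hcompl.disjoint _)
  have hS := Etcore.OpenClosed.shortExact i j hcompl L
  have z2 : IsZero ((EtShriek.extZero j).obj ((EtShriek.restrAlong j).obj L)) :=
    Functor.map_isZero _ z1
  have hepi : Epi ((EtCoh.pullPushAdj i).unit.app L) := hS.epi_g
  have hmono : Mono ((EtCoh.pullPushAdj i).unit.app L) := hS.exact.mono_g (z2.eq_of_src _ _)
  have hiso : IsIso ((EtCoh.pullPushAdj i).unit.app L) := isIso_of_mono_of_epi _
  -- the sheaf on the point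
  have h3 : LocIso ((EtCoh.pull i).obj L) (EtCoh.const (Spec (CommRingCat.of k)) (ZMod n)) :=
    LocIso.of_iso_right (LocIso.pull hL i)
      ((asIso (EtCoh.pullPushAdj i).counit).app _ ≪≫ EtCore.pullConst i (ZMod n))
  obtain ⟨e1⟩ := nonempty_iso_of_locIso h3
  exact ⟨e0.symm ≪≫ asIso ((EtCoh.pullPushAdj i).unit.app L) ≪≫ (EtCoh.push i).mapIso e1⟩

variable (hX : ∀ q, 0 < q → Subsingleton (HC X (ZMod n) q))

include f hc w hU hn hX in
/-- cohomology of the complement -/
theorem subsingleton_compl (q : ℕ) (hq : q ≠ 0) (hq' : q ≠ 2 * c - 1) :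
    Subsingleton (HC U (ZMod n) q) := by
  obtain ⟨h0, h1⟩ := pure_push f c hc i w j hU n hn
  obtain ⟨e⟩ := pure_top f c hc i w j hU n hn
  have e0 : EtCoh.const X (ZMod n) ≅ (EtCoh.Rpush j 0).obj ((EtCoh.pull j).obj (EtCoh.const X (ZMod n))) :=
    asIso ((EtCoh.pullPushAdj j).unit.app (EtCoh.const X (ZMod n))) ≪≫
      ((EtCoh.push j).rightDerivedZeroIsoSelf.app _).symm
  refine Sga4B.HTools.subsingleton_H_of_iso (EtCore.pullConst j (ZMod n)) q ?_
  refine Sga4B.TwoRowEt.subsingleton_H j (2 * c - 1) q _ (fun p hp => h1 p (by omega) (by omega)) ?_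
  intro p m hp hm
  rcases Nat.eq_zero_or_pos p with rfl | hp0
  · exact Sga4B.HTools.subsingleton_H_of_iso e0 m (hX m (by omega))
  · by_cases hp' : p = 2 * c - 1
    · subst hp'
      obtain ⟨e2⟩ := Sga5.ClosedPush.nonempty_H_push i (EtCoh.const (Spec (CommRingCat.of k)) (ZMod n)) m
      have h3 := Etrest.SHPoint.subsingleton_H_of_sepClosed k
        (EtCoh.const (Spec (CommRingCat.of k)) (ZMod n)) m (by omega)
      exact Sga4B.HTools.subsingleton_H_of_iso e.symm m e2.toEquiv.subsingleton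
    · exact subsingleton_H_of_isZero (h1 p (by omega) hp') m

include f hc w hU hn hX in
/-- cohomology of the complement in the critical degree -/
theorem nonempty_compl : Nonempty (HC U (ZMod n) (2 * c - 1) ≃+ ZMod n) := by
  obtain ⟨h0, h1⟩ := pure_push f c hc i w j hU n hn
  obtain ⟨e⟩ := pure_top f c hc i w j hU n hn
  have e0 : EtCoh.const X (ZMod n) ≅ (EtCoh.Rpush j 0).obj ((EtCoh.pull j).obj (EtCoh.const X (ZMod n))) :=
    asIso ((EtCoh.pullPushAdj j).unit.app (EtCoh.const X (ZMod n))) ≪≫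
      ((EtCoh.push j).rightDerivedZeroIsoSelf.app _).symm
  have h2 := Sga4B.TwoRowEt.highH_bijective j (2 * c - 1) (2 * c - 1) 0 (by omega)
    ((EtCoh.pull j).obj (EtCoh.const X (ZMod n))) (fun p hp => h1 p (by omega) (by omega)) (by
      intro p m hp hm
      rcases Nat.eq_zero_or_pos p with rfl | hp0
      · exact Sga4B.HTools.subsingleton_H_of_iso e0 m (hX m (by omega))
      · exact subsingleton_H_of_isZero (h1 p (by omega) (by omega)) m)
  obtain ⟨e2⟩ := Sga5.ClosedPush.nonempty_H_push i (EtCoh.const (Spec (CommRingCat.of k)) (ZMod n)) 0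
  obtain ⟨e3⟩ := Etrest.SHPoint.nonempty_H0_const (Spec (CommRingCat.of k)) (ZMod n)
  exact ⟨((Sga4B.HTools.HCongr (EtCore.pullConst j (ZMod n)) (2 * c - 1)).symm.trans
    (AddEquiv.ofBijective _ h2)).trans ((Sga4B.HTools.HCongr e 0).trans (e2.trans e3))⟩

end Groth.Agent.Lefpen.H719.PointPure
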