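import Groth.Agent.Lefpen.H705.Quadric

/-!
# The split quadric on the standard charts

`phi k m s : k[x_1, …, x_m] ↠ k[T_l : l ≠ s, rev s]` with kernel generated by the dehomogenization of the
split quadratic form in the chart `s`.
-/

set_option autoImplicit false
universe u

open CategoryTheory AlgebraicGeometry Limits TopologicalSpace Opposite

namespace Groth.Agent.Lefpen.H719.SplitAlg

open LefPen Groth.Agent.Lefpen.H705.Quadric Groth.Agent.Sga5

variable (k : Type u) [Field k] (m : ℕ) (s : Fin (m + 1))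

/-- The indices of the coordinates of the chart. -/
abbrev Idx : Type := {l : Fin (m + 1) // l ≠ s ∧ l ≠ s.rev}

/-- The coordinates. -/
noncomputable def y (l : Fin (m + 1)) : MvPolynomial (Idx m s) k :=
  if h : l ≠ s ∧ l ≠ s.rev then MvPolynomial.X ⟨l, h⟩ else 0

theorem y_coe (l : Idx m s) : y k m s l.1 = MvPolynomial.X l := by
  rw [y, dif_pos l.2]

/-- The other pairs. -/
def prs : Finset (Fin (m + 1)) :=
  (Finset.univ.filter (fun i : Fin (m + 1) => i ≤ i.rev)).filter (fun i => i ≠ s ∧ i ≠ s.rev)

/-- The sum over the other pairs. -/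
noncomputable def sm : MvPolynomial (Idx m s) k := ∑ a ∈ prs m s, y k m s a * y k m s a.rev

/-- The values of the homogeneous coordinates. -/
noncomputable def psi (l : Fin (m + 1)) : MvPolynomial (Idx m s) k :=
  if l = s then 1 else if l = s.rev then - sm k m s else y k m s l

theorem psi_self : psi k m s s = 1 := by rw [psi, if_pos rfl]

theorem psi_rev (hs : s ≠ s.rev) : psi k m s s.rev = - sm k m s := by
  rw [psi, if_neg hs.symm, if_pos rfl]

theorem psi_of_ne (l : Fin (m + 1)) (h : l ≠ s) (h' : l ≠ s.rev) : psi k m s l = y k m s l := by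
  rw [psi, if_neg h, if_neg h']

theorem psi_coe (l : Idx m s) : psi k m s l.1 = MvPolynomial.X l := by
  rw [psi_of_ne k m s l.1 l.2.1 l.2.2, y_coe]

theorem mem_prs (a : Fin (m + 1)) : a ∈ prs m s ↔ a ≤ a.rev ∧ a ≠ s ∧ a ≠ s.rev := by
  simp [prs]

theorem prs_rev (a : Fin (m + 1)) (ha : a ∈ prs m s) : a.rev ≠ s ∧ a.rev ≠ s.rev := by
  rw [mem_prs] at ha
  refine ⟨fun h => ha.2.2 ?_, fun h => ha.2.1 (Fin.rev_injective h)⟩
  rw [← h, Fin.rev_rev]

theorem splitPoly_eq (hs : s ≠ s.rev) : splitPoly k m = MvPolynomial.X s * MvPolynomial.X s.rev +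
    ∑ a ∈ prs m s, MvPolynomial.X a * MvPolynomial.X a.rev := by
  classical
  rw [splitPoly, prs]
  rcases le_total s s.rev with h | h
  · rw [← Finset.add_sum_erase _ (fun i : Fin (m + 1) =>
        (MvPolynomial.X i * MvPolynomial.X i.rev : MvPolynomial (Fin (m + 1)) k)) (a := s) (by simpa using h)]
    congr 1
    refine Finset.sum_congr ?_ fun _ _ => rfl
    ext a
    simp only [Finset.mem_erase, Finset.mem_filter, Finset.mem_univ, true_and]
    constructor
    · rintro ⟨h1, h2⟩
      refine ⟨h2, h1, fun h3 => ?_⟩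
      rw [h3, Fin.rev_rev] at h2
      exact hs (le_antisymm h h2)
    · rintro ⟨h1, h2, h3⟩
      exact ⟨h2, h1⟩
  · rw [← Finset.add_sum_erase _ (fun i : Fin (m + 1) =>
        (MvPolynomial.X i * MvPolynomial.X i.rev : MvPolynomial (Fin (m + 1)) k)) (a := s.rev)
          (by simpa [Fin.rev_rev] using h)]
    congr 1
    · rw [Fin.rev_rev, mul_comm]
    refine Finset.sum_congr ?_ fun _ _ => rfl
    ext a
    simp only [Finset.mem_erase, Finset.mem_filter, Finset.mem_univ, true_and]
    constructor
    · rintro ⟨h1, h2⟩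
      refine ⟨h2, fun h3 => ?_, h1⟩
      rw [h3] at h2
      exact hs (le_antisymm h2 h)
    · rintro ⟨h1, h2, h3⟩
      exact ⟨h3, h1⟩

/-- The coordinates of the chart of the quadric. -/
noncomputable def phi : MvPolynomial (Fin m) k →ₐ[k] MvPolynomial (Idx m s) k :=
  MvPolynomial.aeval (fun l => psi k m s (s.succAbove l))

theorem phi_dehom (p : MvPolynomial (Fin (m + 1)) k) :
    phi k m s (ProjChart.dehom m k s p) = MvPolynomial.aeval (psi k m s) p := by
  have h : (phi k m s).toRingHom.comp (ProjChart.dehom m k s) =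
      (MvPolynomial.aeval (R := k) (psi k m s)).toRingHom := by
    apply MvPolynomial.ringHom_ext
    · intro r
      simp [phi]
    · intro l
      rcases Fin.eq_self_or_eq_succAbove s l with rfl | ⟨l, rfl⟩
      · simp [psi_self]
      · simp [phi]
  exact congr($h p)

/-- The section of `phi`. -/
noncomputable def sec : MvPolynomial (Idx m s) k →ₐ[k] MvPolynomial (Fin m) k :=
  MvPolynomial.aeval (fun l => ProjChart.dehom m k s (MvPolynomial.X l.1))

theorem phi_sec (p : MvPolynomial (Idx m s) k) : phi k m s (sec k m s p) = p := by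
  have h : (phi k m s).comp (sec k m s) = AlgHom.id k _ := by
    apply MvPolynomial.algHom_ext
    intro l
    simp only [AlgHom.comp_apply, sec, MvPolynomial.aeval_X, phi_dehom, psi_coe, AlgHom.id_apply]
  exact congr($h p)

theorem phi_surjective : Function.Surjective (phi k m s) := fun p => ⟨_, phi_sec k m s p⟩

theorem aeval_psi_splitPoly (hs : s ≠ s.rev) : MvPolynomial.aeval (psi k m s) (splitPoly k m) = 0 := by
  rw [splitPoly_eq k m s hs, map_add, map_mul, MvPolynomial.aeval_X, MvPolynomial.aeval_X, psi_self,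
    psi_rev k m s hs, one_mul, map_sum, sm, neg_add_eq_zero]
  refine Finset.sum_congr rfl fun a ha => ?_
  have h1 := prs_rev m s a ha
  rw [mem_prs] at ha
  rw [map_mul, MvPolynomial.aeval_X, MvPolynomial.aeval_X, psi_of_ne k m s a ha.2.1 ha.2.2,
    psi_of_ne k m s a.rev h1.1 h1.2]

theorem sec_y (l : Fin (m + 1)) (h : l ≠ s ∧ l ≠ s.rev) :
    sec k m s (y k m s l) = ProjChart.dehom m k s (MvPolynomial.X l) := by
  rw [y, dif_pos h, sec, MvPolynomial.aeval_X]

theorem ker_phi (hs : s ≠ s.rev) : RingHom.ker (phi k m s).toRingHom =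
    Ideal.span {ProjChart.dehom m k s (splitPoly k m)} := by
  apply le_antisymm
  · intro p hp
    have h1 : ((Ideal.Quotient.mkₐ k (Ideal.span {ProjChart.dehom m k s (splitPoly k m)})).comp
        ((sec k m s).comp (phi k m s))) =
        Ideal.Quotient.mkₐ k (Ideal.span {ProjChart.dehom m k s (splitPoly k m)}) := by
      apply MvPolynomial.algHom_ext
      intro l
      simp only [AlgHom.comp_apply, phi, MvPolynomial.aeval_X, Ideal.Quotient.mkₐ_eq_mk]
      by_cases hl : s.succAbove l = s.rev
      · rw [hl, psi_rev k m s hs, Ideal.Quotient.eq, Ideal.mem_span_singleton]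
        refine Dvd.intro (-1) ?_
        rw [splitPoly_eq k m s hs, map_add, map_mul, ProjChart.dehom_X_self, ← hl,
          ProjChart.dehom_X, map_sum, sm, map_neg, map_sum]
        have h2 : ∑ a ∈ prs m s, sec k m s (y k m s a * y k m s a.rev) =
            ∑ a ∈ prs m s, ProjChart.dehom m k s (MvPolynomial.X a * MvPolynomial.X a.rev) := by
          refine Finset.sum_congr rfl fun a ha => ?_
          have h3 := prs_rev m s a ha
          rw [mem_prs] at ha
          rw [map_mul, map_mul, sec_y k m s a ha.2, sec_y k m s a.rev h3]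
        rw [h2]
        ring
      · rw [psi_of_ne k m s _ (Fin.succAbove_ne s l) hl, sec_y k m s _ ⟨Fin.succAbove_ne s l, hl⟩,
          ProjChart.dehom_X]
    have h2 := congr($h1 p)
    have h3 : phi k m s p = 0 := hp
    rw [AlgHom.comp_apply, AlgHom.comp_apply, h3, map_zero, map_zero] at h2
    exact Ideal.Quotient.eq_zero_iff_mem.1 h2.symm
  · rw [Ideal.span_singleton_le_iff_mem, RingHom.mem_ker]
    exact (phi_dehom k m s _).trans (aeval_psi_splitPoly k m s hs)

end Groth.Agent.Lefpen.H719.SplitAlg
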