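import Groth.Agent.Lefpen.H719.SplitAlg
import Groth.Agent.Lefpen.H719.Chart

/-!
# The cell structure of the split quadric of even dimension
-/

set_option autoImplicit false
universe u

open CategoryTheory AlgebraicGeometry Limits TopologicalSpace Opposite

namespace Groth.Agent.Lefpen.H719.SplitGeo

open LefPen Groth.Agent.Lefpen.H705.Quadric Groth.Agent.Sga5 Groth.Agent.Lefpen.H719.SplitAlg

variable (k : Type u) [Field k] (m : ℕ)

/-- The split quadric. -/
noncomputable abbrev XX : Scheme.{u} := (hypIdeal (splitForm k m)).subscheme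

/-- The trace of `D_+(T_s)`. -/
noncomputable def Xo (s : Fin (m + 1)) : (XX k m).Opens :=
  (hypIdeal (splitForm k m)).subschemeι ⁻¹ᵁ (LefPen.chart m k s)

variable (s : Fin (m + 1)) (hs : s ≠ s.rev)

/-- The chart. -/
noncomputable def cht : Spec (CommRingCat.of (MvPolynomial (Idx m s) k)) ⟶ XX k m :=
  (Chart.exists_chart (splitForm k m) s (B := CommRingCat.of (MvPolynomial (Idx m s) k))
    (phi k m s).toRingHom (phi_surjective k m s) (ker_phi k m s hs)).choose

theorem isPullback_cht : IsPullback (Spec.map (CommRingCat.ofHom (phi k m s).toRingHom)) (cht k m s hs)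
    (ProjSmooth.chart m k s) (hypIdeal (splitForm k m)).subschemeι :=
  (Chart.exists_chart (splitForm k m) s (B := CommRingCat.of (MvPolynomial (Idx m s) k))
    (phi k m s).toRingHom (phi_surjective k m s) (ker_phi k m s hs)).choose_spec

instance : IsOpenImmersion (cht k m s hs) :=
  MorphismProperty.of_isPullback (P := @IsOpenImmersion) (isPullback_cht k m s hs) inferInstance

theorem opensRange_cht : (cht k m s hs).opensRange = Xo k m s := by
  have h := isPullback_cht k m s hs
  have e : cht k m s hs = h.isoPullback.hom ≫ pullback.snd _ _ := h.isoPullback_hom_snd.symm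
  have h1 : (cht k m s hs).opensRange = (pullback.snd (ProjSmooth.chart m k s)
      (hypIdeal (splitForm k m)).subschemeι).opensRange := by
    apply Opens.ext
    simp only [Scheme.Hom.coe_opensRange]
    rw [e, Scheme.Hom.comp_base, TopCat.coe_comp, Set.range_comp, Set.range_eq_univ.2, Set.image_univ]
    exact h.isoPullback.hom.surjective
  rw [h1, Scheme.Hom.opensRange_pullbackSnd, ProjSmooth.opensRange_chart]
  rfl

theorem cht_preimage (l : Fin (m + 1)) : (cht k m s hs) ⁻¹ᵁ (Xo k m l) =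
    PrimeSpectrum.basicOpen (psi k m s l) := by
  have h1 : (cht k m s hs) ⁻¹ᵁ (Xo k m l) =
      (Spec.map (CommRingCat.ofHom (phi k m s).toRingHom)) ⁻¹ᵁ ((ProjSmooth.chart m k s) ⁻¹ᵁ
        (LefPen.chart m k l)) := by
    rw [Xo, ← Scheme.Hom.comp_preimage, ← Scheme.Hom.comp_preimage, (isPullback_cht k m s hs).w]
  rw [h1, Chart.chart_preimage]
  change PrimeSpectrum.basicOpen (phi k m s (ProjChart.dehom m k s (MvPolynomial.X l))) = _
  rw [phi_dehom, MvPolynomial.aeval_X]

/-- The filtration by opens. -/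
noncomputable def UU (t : ℕ) : (XX k m).Opens := ⨆ l : {l : Fin (m + 1) // l.val < t}, Xo k m l.1

theorem UU_succ (t : ℕ) (ht : t < m + 1) : UU k m (t + 1) = UU k m t ⊔ Xo k m ⟨t, ht⟩ := by
  apply le_antisymm
  · refine iSup_le fun l => ?_
    rcases Nat.lt_succ_iff_lt_or_eq.1 l.2 with h | h
    · exact (le_iSup (fun l : {l : Fin (m + 1) // l.val < t} => Xo k m l.1) ⟨l.1, h⟩).trans le_sup_left
    · have : l.1 = ⟨t, ht⟩ := Fin.ext h
      rw [this]
      exact le_sup_right
  · refine sup_le (iSup_le fun l => ?_) ?_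
    · exact le_iSup (fun l : {l : Fin (m + 1) // l.val < t + 1} => Xo k m l.1) ⟨l.1, l.2.trans (Nat.lt_succ_self t)⟩
    · exact le_iSup (fun l : {l : Fin (m + 1) // l.val < t + 1} => Xo k m l.1) ⟨⟨t, ht⟩, Nat.lt_succ_self t⟩

theorem UU_zero : UU k m 0 = ⊥ := by
  rw [UU, iSup_eq_bot]
  exact fun l => absurd l.2 (Nat.not_lt_zero _)

theorem UU_top : UU k m (m + 1) = ⊤ := by
  rw [eq_top_iff]
  intro x _
  have h : (hypIdeal (splitForm k m)).subschemeι x ∈ (⊤ : (CohB1.ProjSpace m k).Opens) := trivial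
  rw [← Groth.Agent.Lefpen.H705.HypIdeal.iSup_chart, Opens.mem_iSup] at h
  obtain ⟨l, hl⟩ := h
  exact Opens.mem_iSup.2 ⟨⟨l, l.2⟩, hl⟩

theorem cht_preimage_UU : (cht k m s hs) ⁻¹ᵁ (UU k m s.val) =
    ⨆ l : {l : Idx m s // l.1 < s}, PrimeSpectrum.basicOpen (MvPolynomial.X l.1) := by
  refine (Scheme.Hom.preimage_iSup _ _).trans ?_
  apply le_antisymm
  · refine iSup_le fun l => ?_
    rw [cht_preimage]
    by_cases h1 : l.1 = s.rev
    · rw [h1, psi_rev k m s hs]
      intro x hx
      have hx' : (- sm k m s) ∉ PrimeSpectrum.asIdeal x := hx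
      rw [neg_mem_iff, sm] at hx'
      obtain ⟨a, ha, ha'⟩ : ∃ a ∈ prs m s, y k m s a * y k m s a.rev ∉ PrimeSpectrum.asIdeal x := by
        by_contra hcon
        push Not at hcon
        exact hx' (Ideal.sum_mem _ hcon)
      rw [mem_prs] at ha
      have ha1 : a < s := by
        have h2 := l.2
        rw [h1] at h2
        have h3 := ha.1
        rw [Fin.le_def] at h3
        rw [Fin.lt_def]
        rw [Fin.val_rev] at h2 h3
        omega
      refine Opens.mem_iSup.2 ⟨⟨⟨a, ha.2⟩, ha1⟩, ?_⟩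
      have h4 : (MvPolynomial.X ⟨a, ha.2⟩ : MvPolynomial (Idx m s) k) ∉ PrimeSpectrum.asIdeal x := by
        intro h5
        apply ha'
        rw [y, dif_pos ha.2]
        exact Ideal.mul_mem_right _ _ h5
      exact h4
    · have h2 : l.1 ≠ s := fun h => absurd l.2 (by rw [h]; exact lt_irrefl _)
      rw [show psi k m s l.1 = MvPolynomial.X (⟨l.1, h2, h1⟩ : Idx m s) from psi_coe k m s ⟨l.1, h2, h1⟩]
      exact le_iSup (fun l : {l : Idx m s // l.1 < s} => (PrimeSpectrum.basicOpen
        (MvPolynomial.X l.1 : MvPolynomial (Idx m s) k))) ⟨⟨l.1, h2, h1⟩, l.2⟩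
  · refine iSup_le fun l => ?_
    have h1 := cht_preimage k m s hs l.1.1
    rw [psi_coe] at h1
    refine le_trans (le_of_eq h1.symm) ?_
    exact le_iSup (fun l : {l : Fin (m + 1) // l.val < s.val} => (cht k m s hs) ⁻¹ᵁ (Xo k m l.1))
      ⟨l.1.1, l.2⟩

end Groth.Agent.Lefpen.H719.SplitGeo
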