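import Groth.Agent.Lefpen.H719.CellX
import Groth.Agent.Lefpen.H719.SplitGeo
import Groth.Agent.Etcore.IntLam

/-!
# The middle cohomology of the split quadric of even dimension
-/

set_option autoImplicit false
universe u

open CategoryTheory AlgebraicGeometry Limits TopologicalSpace Opposite

namespace Groth.Agent.Lefpen.H719.SplitCoh

open LefPen Groth.Agent.Lefpen.H705.Quadric Groth.Agent.Sga5 Groth.Agent.Lefpen.H719.SplitAlg
  Groth.Agent.Lefpen.H719.SplitGeo Groth.Agent.Lefpen.H719.MVConst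

section Card

theorem ne_rev (j : ℕ) (s : Fin (2 * j + 1 + 1)) : s ≠ s.rev := by
  intro h
  have h1 := congrArg Fin.val h
  rw [Fin.val_rev] at h1
  omega

theorem card_idx (m : ℕ) (s : Fin (m + 1)) :
    Nat.card {l : Idx m s // l.1 < s} = ((Finset.Iio s).erase s.rev).card := by
  classical
  let e : {l : Idx m s // l.1 < s} ≃ ((Finset.Iio s).erase s.rev : Finset (Fin (m + 1))) :=
    { toFun := fun l => ⟨l.1.1, by
        rw [Finset.mem_erase, Finset.mem_Iio]; exact ⟨l.1.2.2, l.2⟩⟩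
      invFun := fun l => ⟨⟨l.1, by
        have := l.2
        rw [Finset.mem_erase, Finset.mem_Iio] at this
        exact ⟨this.2.ne, this.1⟩⟩, by
        have := l.2
        rw [Finset.mem_erase, Finset.mem_Iio] at this
        exact this.2⟩
      left_inv := fun l => rfl
      right_inv := fun l => rfl }
  rw [Nat.card_congr e, Nat.card_eq_fintype_card, Fintype.card_coe]

theorem card_idx_le (j : ℕ) (s : Fin (2 * j + 1 + 1)) (h : s.val ≤ j) :
    Nat.card {l : Idx (2 * j + 1) s // l.1 < s} = s.val := by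
  rw [card_idx, Finset.erase_eq_of_notMem, Fin.card_Iio]
  rw [Finset.mem_Iio, Fin.lt_def, Fin.val_rev]
  omega

theorem card_idx_gt (j : ℕ) (s : Fin (2 * j + 1 + 1)) (h : j < s.val) :
    Nat.card {l : Idx (2 * j + 1) s // l.1 < s} = s.val - 1 := by
  rw [card_idx, Finset.card_erase_of_mem, Fin.card_Iio]
  rw [Finset.mem_Iio, Fin.lt_def, Fin.val_rev]
  omega

end Card

variable (k : Type u) [Field k] [IsSepClosed k] (n : ℕ) (hn : (n : k) ≠ 0) (j : ℕ)

include hn in
/-- Attaching the cell number `t`. -/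
theorem step (t : ℕ) (ht : t < 2 * j + 1 + 1) (c : ℕ) (hc : c = if t ≤ j then t else t - 1) (hc0 : 0 < c) :
    (∀ q, Odd q → Subsingleton (HC (UU k (2 * j + 1) t : Scheme.{u}) (ZMod n) q) →
      Subsingleton (HC (UU k (2 * j + 1) (t + 1) : Scheme.{u}) (ZMod n) q)) ∧
    (∀ q, 0 < q → q ≠ 2 * c → q ≠ 2 * c - 1 →
      Nonempty (HC (UU k (2 * j + 1) (t + 1) : Scheme.{u}) (ZMod n) q ≃+
        HC (UU k (2 * j + 1) t : Scheme.{u}) (ZMod n) q)) ∧
    (Subsingleton (HC (UU k (2 * j + 1) t : Scheme.{u}) (ZMod n) (2 * c - 1)) →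
      ∃ (f : ZMod n →+ HC (UU k (2 * j + 1) (t + 1) : Scheme.{u}) (ZMod n) (2 * c))
        (h : HC (UU k (2 * j + 1) (t + 1) : Scheme.{u}) (ZMod n) (2 * c) →+
          HC (UU k (2 * j + 1) t : Scheme.{u}) (ZMod n) (2 * c)),
        Function.Injective f ∧ Function.Surjective h ∧ h.ker = f.range) := by
  have hs := ne_rev j ⟨t, ht⟩
  have h1 := cht_preimage_UU k (2 * j + 1) ⟨t, ht⟩ hs
  have h2 : Nat.card {l : Idx (2 * j + 1) ⟨t, ht⟩ // l.1 < (⟨t, ht⟩ : Fin (2 * j + 1 + 1))} = c := by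
    rw [hc]
    split_ifs with h
    · exact card_idx_le j ⟨t, ht⟩ h
    · exact card_idx_gt j ⟨t, ht⟩ (not_le.1 h)
  have h3 := CellX.attach_cell k n hn (UU k (2 * j + 1) t)
    (fun l : Idx (2 * j + 1) ⟨t, ht⟩ => l.1 < (⟨t, ht⟩ : Fin (2 * j + 1 + 1))) c h2 hc0
    (cht k (2 * j + 1) ⟨t, ht⟩ hs) h1
  rw [opensRange_cht, ← UU_succ] at h3
  exact h3

omit [IsSepClosed k] in
theorem UU_one (m : ℕ) : UU k m 1 = Xo k m 0 := by
  have h := UU_succ k m 0 (Nat.succ_pos m)
  rw [UU_zero, bot_sup_eq] at h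
  exact h

include hn in
theorem base (q : ℕ) (hq : 0 < q) :
    Subsingleton (HC (UU k (2 * j + 1) 1 : Scheme.{u}) (ZMod n) q) := by
  obtain ⟨e⟩ := CellX.nonempty_HC_range (cht k (2 * j + 1) 0 (ne_rev j 0)) (UU k (2 * j + 1) 1)
    (by rw [opensRange_cht, UU_one]) (ZMod n) q
  have := CellX.subsingleton_spec k n hn (σ := Idx (2 * j + 1) 0) q hq
  exact e.toEquiv.subsingleton

include hn in
theorem odd (hj : 0 < j) (q : ℕ) (hq : Odd q) (t : ℕ) (ht0 : 0 < t) (ht : t ≤ 2 * j + 1 + 1) :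
    Subsingleton (HC (UU k (2 * j + 1) t : Scheme.{u}) (ZMod n) q) := by
  induction t with
  | zero => exact absurd ht0 (lt_irrefl _)
  | succ t ih =>
    rcases Nat.eq_zero_or_pos t with rfl | ht'
    · exact base k n hn j q hq.pos
    · refine (step k n hn j t (by omega) _ rfl ?_).1 q hq (ih ht' (by omega))
      split_ifs <;> omega

include hn in
theorem low (hj : 0 < j) (t : ℕ) (ht0 : 0 < t) (ht : t ≤ j) :
    Subsingleton (HC (UU k (2 * j + 1) t : Scheme.{u}) (ZMod n) (2 * j)) := by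
  induction t with
  | zero => exact absurd ht0 (lt_irrefl _)
  | succ t ih =>
    rcases Nat.eq_zero_or_pos t with rfl | ht'
    · exact base k n hn j _ (by omega)
    · have h := (step k n hn j t (by omega) t (by rw [if_pos (by omega)]) ht').2.1 (2 * j) (by omega)
        (by omega) (by omega)
      obtain ⟨e⟩ := h
      have := ih ht' (by omega)
      exact e.toEquiv.subsingleton

include hn in
theorem middle (hj : 0 < j) :
    Nonempty (HC (UU k (2 * j + 1) (j + 1) : Scheme.{u}) (ZMod n) (2 * j) ≃+ ZMod n) := by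
  obtain ⟨f, h, hf, hh, hfh⟩ := (step k n hn j j (by omega) j (by rw [if_pos le_rfl]) hj).2.2
    (odd k n hn j hj _ (by exact ⟨j - 1, by omega⟩) j hj (by omega))
  have := low k n hn j hj j hj le_rfl
  refine ⟨(AddEquiv.ofBijective f ⟨hf, fun x => ?_⟩).symm⟩
  have : x ∈ h.ker := Subsingleton.elim _ _
  rw [hfh] at this
  exact this

include hn in
theorem middle' (hj : 0 < j) :
    Nonempty (HC (UU k (2 * j + 1) (j + 2) : Scheme.{u}) (ZMod n) (2 * j) ≃+ ZMod n × ZMod n) := by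
  obtain ⟨f, h, hf, hh, hfh⟩ := (step k n hn j (j + 1) (by omega) j
    (by rw [if_neg (by omega)]; rfl) hj).2.2
    (odd k n hn j hj _ (by exact ⟨j - 1, by omega⟩) (j + 1) (by omega) (by omega))
  obtain ⟨e⟩ := middle k n hn j hj
  refine StepAbs.nonempty_prod (Etcore.IntLam.nsmul_H_eq_zero
    (Etrest.ConstBasic.killedBy_const _ (ZMod n) n (fun a => by simp)) (2 * j)) f
    (e.toAddMonoidHom.comp h) hf (e.surjective.comp hh) ?_
  rw [← hfh]
  ext x
  simp

include hn in
theorem high (hj : 0 < j) (t : ℕ) (ht0 : j + 2 ≤ t) (ht : t ≤ 2 * j + 1 + 1) :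
    Nonempty (HC (UU k (2 * j + 1) t : Scheme.{u}) (ZMod n) (2 * j) ≃+ ZMod n × ZMod n) := by
  induction t, ht0 using Nat.le_induction with
  | base => exact middle' k n hn j hj
  | succ t ht0 ih =>
    obtain ⟨e⟩ := (step k n hn j t (by omega) (t - 1) (by rw [if_neg (by omega)])
      (by omega)).2.1 (2 * j) (by omega) (by omega) (by omega)
    obtain ⟨e'⟩ := ih (by omega)
    exact ⟨e.trans e'⟩

include hn in
theorem nonempty_pos (hj : 0 < j) :
    Nonempty (HC (XX k (2 * j + 1)) (ZMod n) (2 * j) ≃+ ZMod n × ZMod n) := by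
  obtain ⟨e⟩ := high k n hn j hj (2 * j + 1 + 1) (by omega) le_rfl
  rw [UU_top] at e
  obtain ⟨e'⟩ := Etrest.HConstIso.nonempty_HConst (XX k (2 * j + 1)).topIso (ZMod n) (2 * j)
  exact ⟨e'.trans e⟩

end Groth.Agent.Lefpen.H719.SplitCoh
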