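import Groth.Agent.Lefpen.H719.SplitCoh
import Groth.Agent.Sga4B.LocCohTriv

/-!
# The split quadric of dimension zero
-/

set_option autoImplicit false
universe u

open CategoryTheory AlgebraicGeometry Limits TopologicalSpace Opposite

namespace Groth.Agent.Lefpen.H719.SplitZero

open LefPen Groth.Agent.Lefpen.H705.Quadric Groth.Agent.Sga5 Groth.Agent.Lefpen.H719.SplitAlg
  Groth.Agent.Lefpen.H719.SplitGeo Groth.Agent.Lefpen.H719.MVConst Groth.Agent.Lefpen.H719.SplitCoh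

instance isEmpty_idx (s : Fin (2 * 0 + 1 + 1)) : IsEmpty (Idx (2 * 0 + 1) s) :=
  ⟨fun l => by
    have h1 := l.2.1
    have h2 := l.2.2
    rw [Ne, Fin.ext_iff] at h1 h2
    rw [Fin.val_rev] at h2
    omega⟩

variable (k : Type u) [Field k] (n : ℕ)

/-- The chart is the spectrum of `k`. -/
noncomputable def pt (s : Fin (2 * 0 + 1 + 1)) : Spec (CommRingCat.of k) ≅
    Spec (CommRingCat.of (MvPolynomial (Idx (2 * 0 + 1) s) k)) :=
  Scheme.Spec.mapIso (MvPolynomial.isEmptyRingEquiv k (Idx (2 * 0 + 1) s)).toCommRingCatIso.op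

theorem nonempty_chart (s : Fin (2 * 0 + 1 + 1)) :
    Nonempty (HC (Xo k (2 * 0 + 1) s : Scheme.{u}) (ZMod n) 0 ≃+ ZMod n) := by
  obtain ⟨e⟩ := CellX.nonempty_HC_range (cht k (2 * 0 + 1) s (ne_rev 0 s)) (Xo k (2 * 0 + 1) s)
    (opensRange_cht k (2 * 0 + 1) s (ne_rev 0 s)) (ZMod n) 0
  obtain ⟨e1⟩ := Etrest.HConstIso.nonempty_HConst (pt k s) (ZMod n) 0
  obtain ⟨e2⟩ := Etrest.SHPoint.nonempty_H0_const (Spec (CommRingCat.of k)) (ZMod n)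
  exact ⟨e.trans (e1.trans e2)⟩

theorem inf_eq_bot : UU k (2 * 0 + 1) 1 ⊓ Xo k (2 * 0 + 1) 1 = ⊥ := by
  have h1 := cht_preimage_UU k (2 * 0 + 1) 1 (ne_rev 0 1)
  have h2 : (cht k (2 * 0 + 1) 1 (ne_rev 0 1)) ⁻¹ᵁ (UU k (2 * 0 + 1) 1) = ⊥ := by
    refine h1.trans (eq_bot_iff.2 (iSup_le fun l => isEmptyElim l.1))
  rw [inf_comm, ← opensRange_cht k (2 * 0 + 1) 1 (ne_rev 0 1), ← Scheme.Hom.image_preimage_eq_opensRange_inf, h2,
    eq_bot_iff]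
  rintro _ ⟨x, hx, rfl⟩
  exact hx.elim

theorem nonempty_zero :
    Nonempty (HC (XX k (2 * 0 + 1)) (ZMod n) (2 * 0) ≃+ ZMod n × ZMod n) := by
  obtain ⟨δ, h1, -, h3, -⟩ := Attach.mv_opens (UU k (2 * 0 + 1) 1) (Xo k (2 * 0 + 1) 1) (ZMod n)
  have hW : ∀ W : (XX k (2 * 0 + 1)).Opens, W = ⊥ → Subsingleton (HC (W : Scheme.{u}) (ZMod n) 0) := by
    rintro W rfl
    have : IsEmpty ((⊥ : (XX k (2 * 0 + 1)).Opens) : Scheme.{u}) := ⟨fun x => x.2⟩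
    exact PointPure.subsingleton_H_of_isZero (Sga4B.LocCohTriv.isZero_of_isEmpty _) 0
  have h4 := hW _ (inf_eq_bot k)
  have h5 := h3 0
  have h6 : Function.Bijective (AddMonoidHom.prod
      (resC ((XX k (2 * 0 + 1)).homOfLE (le_sup_left : UU k (2 * 0 + 1) 1 ≤ UU k (2 * 0 + 1) 1 ⊔ Xo k (2 * 0 + 1) 1)) (ZMod n) 0)
      (resC ((XX k (2 * 0 + 1)).homOfLE (le_sup_right : Xo k (2 * 0 + 1) 1 ≤ UU k (2 * 0 + 1) 1 ⊔ Xo k (2 * 0 + 1) 1)) (ZMod n) 0)) := by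
    refine ⟨(AddMonoidHom.ker_eq_bot_iff _).1 h1, fun x => ?_⟩
    rw [← AddMonoidHom.mem_range, ← h5]
    exact Subsingleton.elim _ _
  obtain ⟨e1⟩ := nonempty_chart k n 0
  obtain ⟨e2⟩ := nonempty_chart k n 1
  rw [← UU_one] at e1
  have e3 := (AddEquiv.ofBijective _ h6).trans (e1.prodCongr e2)
  have h7 : UU k (2 * 0 + 1) 1 ⊔ Xo k (2 * 0 + 1) 1 = ⊤ :=
    (UU_succ k (2 * 0 + 1) 1 (by norm_num)).symm.trans (UU_top k (2 * 0 + 1))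
  rw [h7] at e3
  obtain ⟨e'⟩ := Etrest.HConstIso.nonempty_HConst (XX k (2 * 0 + 1)).topIso (ZMod n) 0
  exact ⟨e'.trans e3⟩

end Groth.Agent.Lefpen.H719.SplitZero
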